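import Groth.Agent.Lib.SNC29.Step

/-!
# Configurations of curves along sequences of point blow-ups
-/

set_option autoImplicit false
set_option linter.all false
set_option backward.isDefEq.respectTransparency false

universe u

open CategoryTheory AlgebraicGeometry TopologicalSpace IsLocalRing
open GrothLib.CartierDescent

noncomputable section

namespace GrothLib.SNC29

variable {X Y : Scheme.{u}}

/-- All curves of the set are smooth at the closed points of dimension two. -/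
def SmoothCurves (K : Set X) : Prop :=
  ∀ (ζ x : X) (h : ζ ⤳ x), dm ζ = 1 → ζ ∈ K → dm x = 2 → Smooth h

theorem smooth_comap_iso (e : Y ≅ X) {K : Set X} (hK : SmoothCurves K) : SmoothCurves (e.hom ⁻¹' K) := by
  intro ζ x h hζ hmem hx
  refine smooth_of_iso e.hom h (hK _ _ _ ?_ hmem ?_)
  · rw [← dm_eq_of_iso]; exact hζ
  · rw [← dm_eq_of_iso]; exact hx

theorem PtStep.smoothCurves {b : Y ⟶ X} {z : X} (h : PtStep b z) {K : Set X} (hK : SmoothCurves K) :
    SmoothCurves (b ⁻¹' K) := by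
  intro ζ x hs hζ hmem hx2
  by_cases hx : b x = z
  · by_cases hζz : b ζ = z
    · obtain ⟨ε, hεz, hε1, -, hεsm⟩ := h.exists_exceptional
      obtain rfl := h.eq_of_over hε1 hζ hεz hζz
      exact hεsm x hs hx2
    · haveI := h.isIso_off hζz
      refine (h.lift hs hx2 hx hζ hζz (hK _ _ _ ?_ hmem ?_)).1
      · rw [← dm_eq_of_iso]; exact hζ
      · rw [hx]; exact h.two
  · haveI := h.isIso_off hx
    haveI := h.isIso_off (h.ne_of_spec hs hx)
    refine smooth_of_iso b hs (hK _ _ _ ?_ hmem ?_)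
    · rw [← dm_eq_of_iso]; exact hζ
    · rw [← dm_eq_of_iso]; exact hx2

/-- Smooth curves stay smooth. -/
theorem smoothCurves_of_seq {r : Y ⟶ X} (hr : Models.IsContractionSeq r) :
    ∀ (hX : Surf X) {K : Set X}, SmoothCurves K → SmoothCurves (r ⁻¹' K) := by
  induction hr with
  | iso e => exact fun _ _ hK => smooth_comap_iso e hK
  | @step A B D E ι b r hι hE hb hr ih =>
    intro hX K hK
    obtain ⟨-, -, z, hz, -, -, hd, hblow⟩ := hb
    have h : PtStep b z := ⟨surf_of_seq hr hX, hz, hd, hblow⟩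
    exact h.smoothCurves (ih hX hK)

/-- Exceptional curves are transversal to all others, and do not meet two of them at once. -/
def ExcTrans (r : Y ⟶ X) (K : Set X) : Prop :=
  ∀ (ζ ξ x : Y) (hζ : ζ ⤳ x) (hξ : ξ ⤳ x), dm ζ = 1 → dm ξ = 1 → dm x = 2 → r ζ ∈ K → r ξ ∈ K →
    ζ ≠ ξ → dm (r ζ) = 2 →
    Trans hζ hξ ∧ ∀ χ : Y, χ ⤳ x → dm χ = 1 → r χ ∈ K → χ ≠ ζ → χ ≠ ξ → dm (r ξ) = 2 → False

theorem excTrans_of_seq {r : Y ⟶ X} (hr : Models.IsContractionSeq r) :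
    ∀ (hX : Surf X) {K : Set X}, SmoothCurves K → ExcTrans r K := by
  induction hr with
  | iso e =>
    intro hX K hK ζ ξ x hζ hξ h1 h1' h2 _ _ _ he
    rw [← dm_eq_of_iso] at he
    exact absurd rfl (ne_of_dims h1 he)
  | @step A B D E ι b r hι hE hb hr ih =>
    intro hX K hK ζ ξ x hζ hξ h1 h1' hx2 hKζ hKξ hne he
    obtain ⟨-, -, z, hz, -, -, hd, hblow⟩ := hb
    have h : PtStep b z := ⟨surf_of_seq hr hX, hz, hd, hblow⟩
    have IH := ih hX hK
    have hsm := smoothCurves_of_seq hr hX hK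
    have curve : ∀ {q : A}, dm q = 1 → b q ≠ z → dm (b q) = 1 := fun {q} hq hqz => by
      haveI := h.isIso_off hqz
      rw [← dm_eq_of_iso]; exact hq
    have dist : ∀ {p q : A}, p ≠ q → b p ≠ z → b p ≠ b q := fun hpq hpz hh =>
      hpq (eq_of_apply_eq_off h.closed h.blow hh hpz)
    by_cases hx : b x = z
    · have hbx2 : dm (b x) = 2 := by rw [hx]; exact h.two
      -- two lifts one of which is exceptional below do not meet
      have key : ∀ {p q : A} (hp : p ⤳ x) (hq : q ⤳ x), dm p = 1 → dm q = 1 → r (b p) ∈ K → r (b q) ∈ K →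
          b p ≠ z → b q ≠ z → p ≠ q → dm (r (b p)) = 2 → False := by
        intro p q hp hq hp1 hq1 hpK hqK hpz hqz hpq hpe
        exact h.no_meet hp hq hx hpz hqz
          (IH (b p) (b q) (b x) _ _ (curve hp1 hpz) (curve hq1 hqz) hbx2 hpK hqK (dist hpq hpz) hpe).1
      refine ⟨?_, fun χ hχ hχ1 hχK hχζ hχξ hξe => ?_⟩
      · by_cases hζz : b ζ = z
        · have hξz : b ξ ≠ z := fun hh => hne (h.eq_of_over h1 h1' hζz hh)
          exact ((h.lift hξ hx2 hx h1' hξz (hsm _ _ _ (curve h1' hξz) hKξ hbx2)).2 hζ hζz).symm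
        · by_cases hξz : b ξ = z
          · exact ((h.lift hζ hx2 hx h1 hζz (hsm _ _ _ (curve h1 hζz) hKζ hbx2)).2 hξ hξz)
          · exact (key hζ hξ h1 h1' hKζ hKξ hζz hξz hne he).elim
      · by_cases hζz : b ζ = z
        · have hξz : b ξ ≠ z := fun hh => hne (h.eq_of_over h1 h1' hζz hh)
          have hχz : b χ ≠ z := fun hh => hχζ (h.eq_of_over hχ1 h1 hh hζz)
          exact key hξ hχ h1' hχ1 hKξ hχK hξz hχz (Ne.symm hχξ) hξe
        · by_cases hξz : b ξ = z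
          · have hχz : b χ ≠ z := fun hh => hχξ (h.eq_of_over hχ1 h1' hh hξz)
            exact key hζ hχ h1 hχ1 hKζ hχK hζz hχz (Ne.symm hχζ) he
          · exact key hζ hξ h1 h1' hKζ hKξ hζz hξz hne he
    · haveI := h.isIso_off hx
      have hbx2 : dm (b x) = 2 := by rw [← dm_eq_of_iso]; exact hx2
      have hζz := h.ne_of_spec hζ hx
      have hξz := h.ne_of_spec hξ hx
      obtain ⟨ht, hn⟩ := IH (b ζ) (b ξ) (b x) (hζ.map b.continuous) (hξ.map b.continuous) (curve h1 hζz)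
        (curve h1' hξz) hbx2 hKζ hKξ (dist hne hζz) he
      refine ⟨trans_of_iso b hζ hξ ht, fun χ hχ hχ1 hχK hχζ hχξ hξe => ?_⟩
      have hχz := h.ne_of_spec hχ hx
      exact hn (b χ) (hχ.map b.continuous) (curve hχ1 hχz) hχK (dist hχζ hχz) (dist hχξ hχz) hξe

/-- Normal crossings at the closed points. -/
structure IsSNC (K : Set X) : Prop where
  smooth : SmoothCurves K
  trans : ∀ (ζ ξ x : X) (hζ : ζ ⤳ x) (hξ : ξ ⤳ x), dm ζ = 1 → dm ξ = 1 → dm x = 2 → ζ ∈ K → ξ ∈ K →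
    ζ ≠ ξ → Trans hζ hξ
  le_two : ∀ (ζ ξ χ x : X), ζ ⤳ x → ξ ⤳ x → χ ⤳ x → dm ζ = 1 → dm ξ = 1 → dm χ = 1 → dm x = 2 →
    ζ ∈ K → ξ ∈ K → χ ∈ K → ζ ≠ ξ → ζ ≠ χ → ξ ≠ χ → False

/-- If the strict transforms are disjoint, the total transform has normal crossings. -/
theorem isSNC_of_disjoint {r : Y ⟶ X} (hr : Models.IsContractionSeq r) (hX : Surf X) {K : Set X}
    (hK : SmoothCurves K)
    (hdis : ∀ (ζ ξ x : Y), ζ ⤳ x → ξ ⤳ x → dm ζ = 1 → dm ξ = 1 → dm x = 2 → r ζ ∈ K → r ξ ∈ K →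
      ζ ≠ ξ → dm (r ζ) ≠ 2 → dm (r ξ) ≠ 2 → False) : IsSNC (r ⁻¹' K) := by
  have hexc := excTrans_of_seq hr hX hK
  refine ⟨smoothCurves_of_seq hr hX hK, fun ζ ξ x hζ hξ h1 h1' h2 hKζ hKξ hne => ?_, ?_⟩
  · by_cases he : dm (r ζ) = 2
    · exact (hexc ζ ξ x hζ hξ h1 h1' h2 hKζ hKξ hne he).1
    · by_cases he' : dm (r ξ) = 2
      · exact (hexc ξ ζ x hξ hζ h1' h1 h2 hKξ hKζ hne.symm he').1.symm
      · exact (hdis ζ ξ x hζ hξ h1 h1' h2 hKζ hKξ hne he he').elim
  · intro ζ ξ χ x hζ hξ hχ a b c h2 ka kb kc hab hac hbc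
    by_cases ea : dm (r ζ) = 2
    · by_cases eb : dm (r ξ) = 2
      · exact (hexc ζ ξ x hζ hξ a b h2 ka kb hab ea).2 χ hχ c kc hac.symm hbc.symm eb
      · by_cases ec : dm (r χ) = 2
        · exact (hexc ζ χ x hζ hχ a c h2 ka kc hac ea).2 ξ hξ b kb hab.symm hbc ec
        · exact hdis ξ χ x hξ hχ b c h2 kb kc hbc eb ec
    · by_cases eb : dm (r ξ) = 2
      · by_cases ec : dm (r χ) = 2
        · exact (hexc ξ χ x hξ hχ b c h2 kb kc hbc eb).2 ζ hζ a ka hab hac ec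
        · exact hdis ζ χ x hζ hχ a c h2 ka kc hac ea ec
      · exact hdis ζ ξ x hζ hξ a b h2 ka kb hab ea eb

end GrothLib.SNC29
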