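import Groth.Agent.Lib.NormBlow29.Algebra
import Groth.Agent.Lib.CartierDescent.Conditions
import Groth.Agent.Lib.ArSurf29.Horizontal
import Groth.Agent.Lib.CurvePoints.Basic
import Groth.Agent.Lib.SkLift5.Basic

/-!
# Curves on a regular surface in the local rings
-/

set_option autoImplicit false
set_option linter.all false
set_option backward.isDefEq.respectTransparency false

universe u

open CategoryTheory AlgebraicGeometry TopologicalSpace IsLocalRing
open GrothLib.CartierDescent

noncomputable section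

namespace GrothLib.SNC29

variable {X Y : Scheme.{u}}

/-- The prime of a generization in the local ring. -/
def prAt {ζ x : X} (h : ζ ⤳ x) : Ideal (X.presheaf.stalk x) :=
  (maximalIdeal (X.presheaf.stalk ζ)).comap (X.presheaf.stalkSpecializes h).hom

instance {ζ x : X} (h : ζ ⤳ x) : (prAt h).IsPrime :=
  inferInstanceAs ((maximalIdeal (X.presheaf.stalk ζ)).comap (X.presheaf.stalkSpecializes h).hom).IsPrime

theorem prAt_self (x : X) : prAt (specializes_refl x) = maximalIdeal (X.presheaf.stalk x) := by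
  show Ideal.comap _ _ = _
  rw [show X.presheaf.stalkSpecializes (specializes_refl x) = 𝟙 _ from TopCat.Presheaf.stalkSpecializes_refl _ x]
  rfl

theorem prAt_eq_point {ζ x : X} (h : ζ ⤳ x) : ∃ hP, X.fromSpecStalk x ⟨prAt h, hP⟩ = ζ := by
  refine ⟨inferInstance, ?_⟩
  have e : (Spec.map (X.presheaf.stalkSpecializes h)) (closedPoint (X.presheaf.stalk ζ)) = ⟨prAt h, inferInstance⟩ := rfl
  rw [← e, ← Scheme.Hom.comp_apply, Scheme.SpecMap_stalkSpecializes_fromSpecStalk, Scheme.fromSpecStalk_closedPoint]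

theorem prAt_injective {ζ ξ x : X} (h : ζ ⤳ x) (h' : ξ ⤳ x) (e : prAt h = prAt h') : ζ = ξ := by
  obtain ⟨h1, e1⟩ := prAt_eq_point h
  obtain ⟨h2, e2⟩ := prAt_eq_point h'
  rw [← e1, ← e2]
  congr 1
  exact PrimeSpectrum.ext e

theorem exists_prAt_eq {x : X} (Q : Ideal (X.presheaf.stalk x)) [Q.IsPrime] :
    ∃ (q : X) (h : q ⤳ x), Q = prAt h := by
  obtain ⟨q, h, e, -⟩ := exists_specializes_eq x Q
  exact ⟨q, h, e⟩

theorem prAt_le {ξ ζ x : X} (h' : ξ ⤳ ζ) (h : ζ ⤳ x) : prAt (h'.trans h) ≤ prAt h := comap_maximalIdeal_le h' h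

theorem stalkIdeal_le_prAt (I : X.IdealSheafData) {q x : X} (h : q ⤳ x) :
    stalkIdeal I x ≤ prAt h ↔ q ∈ (I.support : Set X) := by
  rw [prAt, ← Ideal.map_le_iff_le_comap, stalkIdeal_map_specializes]
  constructor
  · intro hle
    by_contra hn
    rw [(stalkIdeal_eq_top_iff I q).2 hn] at hle
    exact (maximalIdeal.isMaximal _).ne_top (top_le_iff.1 hle)
  · intro hq
    refine IsLocalRing.le_maximalIdeal fun e => ?_
    exact (stalkIdeal_eq_top_iff I q).1 e hq

theorem comap_prAt (b : Y ⟶ X) {ζ x : Y} (h : ζ ⤳ x) :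
    (prAt h).comap (b.stalkMap x).hom = prAt (h.map b.continuous) := by
  ext a
  show Y.presheaf.stalkSpecializes h (b.stalkMap x a) ∈ maximalIdeal _ ↔
    X.presheaf.stalkSpecializes (h.map b.continuous) a ∈ maximalIdeal _
  rw [← Scheme.Hom.stalkSpecializes_stalkMap_apply b ζ x h a, IsLocalRing.mem_maximalIdeal,
    IsLocalRing.mem_maximalIdeal, mem_nonunits_iff, mem_nonunits_iff]
  exact (isUnit_map_iff (b.stalkMap ζ).hom _).not

/-- A smooth curve germ at a point of a surface. -/
def Smooth {ζ x : X} (h : ζ ⤳ x) : Prop :=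
  ∃ f g, maximalIdeal (X.presheaf.stalk x) = Ideal.span {f, g} ∧ prAt h = Ideal.span {f}

/-- Two transversal germs. -/
def Trans {ζ ξ x : X} (h : ζ ⤳ x) (h' : ξ ⤳ x) : Prop :=
  maximalIdeal (X.presheaf.stalk x) ≤ prAt h ⊔ prAt h'

theorem Trans.symm {ζ ξ x : X} {h : ζ ⤳ x} {h' : ξ ⤳ x} (t : Trans h h') : Trans h' h := by
  rwa [Trans, sup_comm]

section Iso

variable (b : Y ⟶ X) {x : Y} [IsIso (b.stalkMap x)]

theorem map_prAt {ζ : Y} (h : ζ ⤳ x) : (prAt (h.map b.continuous)).map (b.stalkMap x).hom = prAt h := by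
  rw [← comap_prAt]
  exact Ideal.map_comap_of_surjective _ (ConcreteCategory.bijective_of_isIso (b.stalkMap x)).2 _

theorem map_maximalIdeal : (maximalIdeal (X.presheaf.stalk (b x))).map (b.stalkMap x).hom = maximalIdeal _ := by
  refine le_antisymm (Ideal.map_le_iff_le_comap.2 fun a ha => ?_) fun c hc => ?_
  · exact fun hu => ha ((isUnit_map_iff (b.stalkMap x).hom a).1 hu)
  · obtain ⟨a, rfl⟩ := (ConcreteCategory.bijective_of_isIso (b.stalkMap x)).2 c
    exact Ideal.mem_map_of_mem _ (fun hu => hc (hu.map _))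

theorem smooth_of_iso {ζ : Y} (h : ζ ⤳ x) (s : Smooth (h.map b.continuous)) : Smooth h := by
  obtain ⟨f, g, hm, hp⟩ := s
  refine ⟨b.stalkMap x f, b.stalkMap x g, ?_, ?_⟩
  · rw [← map_maximalIdeal b, hm, Ideal.map_span, Set.image_pair]
  · rw [← map_prAt b h, hp, Ideal.map_span, Set.image_singleton]

theorem trans_of_iso {ζ ξ : Y} (h : ζ ⤳ x) (h' : ξ ⤳ x) (t : Trans (h.map b.continuous) (h'.map b.continuous)) :
    Trans h h' := by
  rw [Trans, ← map_maximalIdeal b, ← map_prAt b h, ← map_prAt b h', ← Ideal.map_sup]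
  exact Ideal.map_mono t

end Iso

/-- A regular quotient by the prime of a curve gives parameters. -/
theorem exists_params {R : Type u} [CommRing R] [IsDomain R] [IsRegularLocalRing R] (hd : ringKrullDim R = 2)
    {P : Ideal R} [P.IsPrime] (hP0 : P ≠ ⊥) (hPm : P ≠ maximalIdeal R)
    (hreg : IsRegularLocalRing (R ⧸ P)) : ∃ f g, maximalIdeal R = Ideal.span {f, g} ∧ P = Ideal.span {f} := by
  haveI := GrothLib.RegUFD.ufd_of_isRegularLocalRing R
  obtain ⟨f, hf, hPf⟩ := GrothLib.NormBlow29.exists_prime_span hd.le hP0 hPm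
  haveI := hreg
  have hd1 : ringKrullDim (R ⧸ P) ≤ 1 := by
    subst hPf
    have h := ringKrullDim_quotient_succ_le_of_nonZeroDivisor (mem_nonZeroDivisors_of_ne_zero hf.ne_zero)
    rw [hd] at h
    rw [← WithBot.coe_one]
    have h2 : ringKrullDim (R ⧸ Ideal.span {f}) + 1 ≤ 1 + 1 := by
      rw [show (1 + 1 : WithBot ℕ∞) = 2 from one_add_one_eq_two]
      exact h
    exact GrothLib.SkLift5.le_of_add_one_le h2
  haveI : IsDomain (R ⧸ P) := inferInstance
  obtain ⟨c, hc⟩ : (maximalIdeal (R ⧸ P)).IsPrincipal := by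
    haveI : IsPrincipalIdealRing (R ⧸ P) := by
      refine ((tfae_of_isNoetherianRing_of_isLocalRing_of_isDomain (R ⧸ P)).out 5 0).1 ?_
      have h := (IsRegularLocalRing.iff_finrank_cotangentSpace (R ⧸ P)).1 inferInstance
      rw [← h] at hd1
      exact_mod_cast hd1
    exact IsPrincipalIdealRing.principal _
  obtain ⟨g, rfl⟩ := Ideal.Quotient.mk_surjective c
  refine ⟨f, g, le_antisymm (fun a ha => ?_) ?_, hPf⟩
  · have h1 : Ideal.Quotient.mk P a ∈ maximalIdeal (R ⧸ P) := by
      refine fun hu => ha ?_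
      obtain ⟨u, hu'⟩ := Ideal.Quotient.mk_surjective ((hu.unit⁻¹ : (R ⧸ P)ˣ) : R ⧸ P)
      have h2 : a * u - 1 ∈ P := by
        rw [← Ideal.Quotient.eq_zero_iff_mem, map_sub, map_mul, hu', map_one]
        exact sub_eq_zero.2 hu.mul_val_inv
      have h3 : IsUnit (a * u) := by
        by_contra hn
        have := sub_mem ((IsLocalRing.mem_maximalIdeal _).2 hn) (IsLocalRing.le_maximalIdeal (Ideal.IsPrime.ne_top ‹_›) h2)
        rw [sub_sub_cancel] at this
        exact (IsLocalRing.mem_maximalIdeal _).1 this isUnit_one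
      exact isUnit_of_mul_isUnit_left h3
    rw [hc, Ideal.submodule_span_eq, Ideal.mem_span_singleton'] at h1
    obtain ⟨q, hq⟩ := h1
    obtain ⟨q, rfl⟩ := Ideal.Quotient.mk_surjective q
    rw [← map_mul, Ideal.Quotient.eq, hPf, Ideal.mem_span_singleton'] at hq
    obtain ⟨s, hs⟩ := hq
    exact Ideal.mem_span_pair.2 ⟨-s, q, by linear_combination -hs⟩
  · rw [Ideal.span_le]
    rintro y (rfl | rfl)
    · exact IsLocalRing.le_maximalIdeal (Ideal.IsPrime.ne_top ‹_›) (hPf.ge (Ideal.mem_span_singleton_self y))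
    · intro hu
      have : Ideal.Quotient.mk P y ∈ maximalIdeal (R ⧸ P) := by
        rw [hc]; exact Ideal.mem_span_singleton_self _
      exact this (hu.map _)

theorem ker_stalkMap_eq_prAt {W : Scheme.{u}} [IsIntegral W] (i : W ⟶ X) [IsClosedImmersion i] (w : W) :
    RingHom.ker (i.stalkMap w).hom = prAt ((genericPoint_specializes w).map i.continuous) := by
  rw [← comap_prAt i (genericPoint_specializes w)]
  have hF : maximalIdeal (W.presheaf.stalk (genericPoint W)) = ⊥ :=
    IsLocalRing.isField_iff_maximalIdeal_eq.1 (Field.toIsField W.functionField)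
  ext a
  simp only [RingHom.mem_ker, Ideal.mem_comap, prAt, hF, Ideal.mem_bot]
  exact (map_eq_zero_iff _ (IsFractionRing.injective (W.presheaf.stalk w) W.functionField)).symm

/-- A closed curve with regular local rings is smooth. -/
theorem smooth_of_regular [IsIntegral X] {W : Scheme.{u}} [IsIntegral W] (i : W ⟶ X) [IsClosedImmersion i] (w : W)
    (hR : IsRegularLocalRing (X.presheaf.stalk (i w))) (hd : ringKrullDim (X.presheaf.stalk (i w)) = 2)
    (hW : IsRegularLocalRing (W.presheaf.stalk w)) (hne : i (genericPoint W) ≠ genericPoint X)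
    (hne' : i (genericPoint W) ≠ i w) : Smooth ((genericPoint_specializes w).map i.continuous) := by
  haveI := hR
  set h := (genericPoint_specializes w).map i.continuous
  have hsur : Function.Surjective (i.stalkMap w).hom := i.stalkMap_surjective w
  have hreg : IsRegularLocalRing (X.presheaf.stalk (i w) ⧸ prAt h) := by
    haveI := hW
    exact IsRegularLocalRing.of_ringEquiv (R := W.presheaf.stalk w)
      ((RingHom.quotientKerEquivOfSurjective hsur).symm.trans (Ideal.quotEquivOfEq (ker_stalkMap_eq_prAt i w)))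
  refine exists_params hd (fun h0 => hne ?_) (fun hm => hne' (prAt_injective h (specializes_refl _) (hm.trans (prAt_self _).symm))) hreg
  have hη : genericPoint X ⤳ i w := genericPoint_specializes _
  refine prAt_injective h hη (h0.trans (le_antisymm bot_le fun a ha => ?_))
  have hF : maximalIdeal (X.presheaf.stalk (genericPoint X)) = ⊥ :=
    IsLocalRing.isField_iff_maximalIdeal_eq.1 (Field.toIsField X.functionField)
  rw [prAt, hF, Ideal.mem_comap, Ideal.mem_bot] at ha
  rw [Ideal.mem_bot]
  exact (map_eq_zero_iff _ (IsFractionRing.injective (X.presheaf.stalk (i w)) X.functionField)).1 ha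

/-- A smooth curve is regular. -/
theorem regular_quotient {R : Type u} [CommRing R] [IsDomain R] [IsRegularLocalRing R] (hd : ringKrullDim R = 2)
    {f g : R} (hm : maximalIdeal R = Ideal.span {f, g}) [(Ideal.span {f}).IsPrime] :
    IsRegularLocalRing (R ⧸ Ideal.span {f}) := by
  haveI : IsLocalRing (R ⧸ Ideal.span {f}) :=
    IsLocalRing.of_surjective' (Ideal.Quotient.mk _) Ideal.Quotient.mk_surjective
  by_cases hfld : IsField (R ⧸ Ideal.span {f})
  · letI := hfld.toField
    infer_instance
  · haveI : IsDomain (R ⧸ Ideal.span {f}) := inferInstance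
    have hpr : (maximalIdeal (R ⧸ Ideal.span {f})).IsPrincipal := by
      refine ⟨⟨Ideal.Quotient.mk _ g, ?_⟩⟩
      refine le_antisymm (fun c hc => ?_) ?_
      · obtain ⟨a, rfl⟩ := Ideal.Quotient.mk_surjective c
        have ha : a ∈ maximalIdeal R := fun hu => hc (hu.map _)
        rw [hm, Ideal.mem_span_pair] at ha
        obtain ⟨s, t, rfl⟩ := ha
        rw [Ideal.submodule_span_eq, map_add, map_mul, map_mul,
          Ideal.Quotient.eq_zero_iff_mem.2 (Ideal.mem_span_singleton_self f), mul_zero, zero_add]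
        exact Ideal.mul_mem_left _ _ (Ideal.mem_span_singleton_self _)
      · rw [Ideal.submodule_span_eq, Ideal.span_singleton_le_iff_mem]
        intro hu
        have hg : g ∈ maximalIdeal R := hm.ge (Ideal.subset_span (by simp))
        obtain ⟨u, hu'⟩ := Ideal.Quotient.mk_surjective ((hu.unit⁻¹ : (R ⧸ Ideal.span {f})ˣ) : R ⧸ Ideal.span {f})
        have h2 : g * u - 1 ∈ Ideal.span {f} := by
          rw [← Ideal.Quotient.eq_zero_iff_mem, map_sub, map_mul, hu', map_one]
          exact sub_eq_zero.2 hu.mul_val_inv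
        have := sub_mem (Ideal.mul_mem_right u _ hg)
          (IsLocalRing.le_maximalIdeal (Ideal.IsPrime.ne_top ‹_›) h2)
        rw [sub_sub_cancel] at this
        exact (IsLocalRing.mem_maximalIdeal _).1 this isUnit_one
    haveI : IsDiscreteValuationRing (R ⧸ Ideal.span {f}) :=
      ((IsDiscreteValuationRing.TFAE _ hfld).out 0 4).2 hpr
    infer_instance

end GrothLib.SNC29
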