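import Groth.Agent.Lib.SNC29.Invariant
import Groth.Agent.Lib.RatSing29.StalkRational
import Groth.Agent.S7374

/-!
# Embedded resolution of curves on a regular surface
-/

set_option autoImplicit false
set_option linter.all false
set_option backward.isDefEq.respectTransparency false

universe u

open CategoryTheory AlgebraicGeometry TopologicalSpace IsLocalRing
open GrothLib.CartierDescent

noncomputable section

namespace GrothLib.SNC29

variable {X Y : Scheme.{u}}

theorem apply_genericPoint_seq {r : Y ⟶ X} (hr : Models.IsContractionSeq r) (hX : Surf X)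
    [IsIntegral Y] [IsIntegral X] : r (genericPoint Y) = genericPoint X := by
  haveI := hX.noeth
  obtain ⟨hN, -, hp, -, V, hV, hViso⟩ := GrothLib.NormBlow29.modification_of_contractionSeq hr hX.reg
  haveI := hViso; haveI := hN; haveI := hp
  exact (GrothLib.ExcP1.birational_of_iso_over (f := r) V hV).1

/-- A curve of a set which is not exceptional comes from a non-closed curve below. -/
theorem curve_below {r : Y ⟶ X} (hr : Models.IsContractionSeq r) {ζ x : Y} (h : ζ ⤳ x) (h1 : dm ζ = 1)
    (h2 : dm x = 2) (he : dm (r ζ) ≠ 2) : dm (r ζ) = 1 ∧ ¬ IsClosed ({r ζ} : Set X) :=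
  ⟨dm_eq_one hr h1 he, nonclosed_of_spec (h.map r.continuous) fun e => ne_of_dims h1 h2 (eq_of_preimage hr e he)⟩

/-- Strict transforms of finitely many curves become regular and disjoint. -/
theorem exists_separate (hX : Surf X) (S : Set X) (hS : S.Finite)
    (hS1 : ∀ ζ ∈ S, dm ζ = 1 ∧ ¬ IsClosed ({ζ} : Set X))
    (hfin : ∀ ζ ∈ S, ∀ [QuasiCompact ((curveIdeal ζ).subscheme.fromSpecStalk (genericPoint ↥(curveIdeal ζ).subscheme))]
      [QuasiSeparated ((curveIdeal ζ).subscheme.fromSpecStalk (genericPoint ↥(curveIdeal ζ).subscheme))],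
      IsFinite (Curv2.normalizationι (curveIdeal ζ).subscheme)) :
    ∃ (X' : Scheme.{u}) (g : X' ⟶ X), Models.IsContractionSeq g ∧
      (∀ (ζ x : X') (h : ζ ⤳ x), dm ζ = 1 → dm x = 2 → g ζ ∈ S → Smooth h) ∧
      ∀ (ζ ξ x : X'), ζ ⤳ x → ξ ⤳ x → g ζ ∈ S → g ξ ∈ S → ζ ≠ ξ → False := by
  haveI := hX.noeth; haveI := hX.int
  haveI := hS.fintype
  let c := (Fintype.equivFin S).symm
  let I : Fin (Fintype.card S) → X.IdealSheafData := fun i => curveIdeal (c i).1
  haveI : ∀ i, IsLocallyNoetherian (I i).subscheme := fun i =>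
    LocallyOfFiniteType.isLocallyNoetherian (I i).subschemeι
  haveI : ∀ i, IsIntegral (I i).subscheme := fun i => inferInstanceAs (IsIntegral (curveIdeal (c i).1).subscheme)
  have hinj : Function.Injective I := fun i j hij => c.injective (Subtype.ext (by
    have h := congrArg (fun J : X.IdealSheafData => (J.support : Set X)) hij
    simp only [I, support_curveIdeal] at h
    exact ((specializes_iff_mem_closure.2 (h ▸ subset_closure rfl : (c i).1 ∈ closure {(c j).1})).antisymm
      (specializes_iff_mem_closure.2 (h.symm ▸ subset_closure rfl : (c j).1 ∈ closure {(c i).1}))).eq.symm))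
  obtain ⟨X', g, hg, I', g', hI', hdis⟩ := Groth.Agent.S7374.result X I
    (fun i => dim_curveIdeal hX (hS1 _ (c i).2).2 (hS1 _ (c i).2).1) (fun i => hfin _ (c i).2) hinj
  have hgc := seq_of_ptBlowup hg hX
  have hX' := surf_of_seq hgc hX
  haveI := hX'.int; haveI := hX'.noeth
  have hlift : ∀ (ζ : X') (i), g ζ = (c i).1 → ∃ W : X'.IdealSheafData, W = I' i ∧
      ∃ hW : IsIntegral (I' i).subscheme, (I' i).subschemeι (genericPoint (I' i).subscheme) = ζ := by
    intro ζ i hi
    obtain ⟨hint, hcomm, ⟨V, hV, hViso⟩, -⟩ := hI' i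
    haveI := hint; haveI := hViso
    obtain ⟨v, hv⟩ := hV
    obtain ⟨p, hp⟩ := (g' i ∣_ V).homeomorph.surjective
      ⟨genericPoint (I i).subscheme, (genericPoint_specializes v).mem_open V.2 hv⟩
    have hp' : g' i p.1 = genericPoint (I i).subscheme :=
      (morphismRestrict_base_coe (g' i) _ p).symm.trans (congrArg Subtype.val hp)
    have hne2 : dm (g ζ) ≠ 2 := by
      rw [hi]; intro h
      exact ne_of_dims (hS1 _ (c i).2).1 h rfl
    have h1 : (I' i).subschemeι p.1 = ζ := by
      refine (eq_of_preimage hgc ?_ hne2).symm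
      rw [← Scheme.Hom.comp_apply, ← hcomm, Scheme.Hom.comp_apply, hp', hi]
      exact (genericPoint_curveIdeal _).symm
    refine ⟨_, rfl, hint, ?_⟩
    by_contra hne
    have h2 : (I' i).subschemeι (genericPoint (I' i).subscheme) ⤳ ζ :=
      h1 ▸ (genericPoint_specializes p.1).map (I' i).subschemeι.continuous
    have h3 := dm_add_one_le h2 hne
    have hζ1 : dm ζ = 1 := by
      haveI := iso_of_ne_two hgc hne2
      rw [dm_eq_of_iso g ζ, hi]
      exact (hS1 _ (c i).2).1
    obtain ⟨n, hn, -⟩ := exists_nat_dm hX' ((I' i).subschemeι (genericPoint (I' i).subscheme))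
    have hn0 : n = 0 := by
      rw [hn, hζ1] at h3
      have : n + 1 ≤ 1 := by exact_mod_cast h3
      omega
    subst hn0
    have hη := dm_eq_zero_iff.1 (show dm ((I' i).subschemeι (genericPoint (I' i).subscheme)) = 0 by exact_mod_cast hn)
    have h4 : g ((I' i).subschemeι (genericPoint (I' i).subscheme)) ∈ closure {(c i).1} := by
      rw [← Scheme.Hom.comp_apply, ← hcomm, Scheme.Hom.comp_apply, ← range_curveIdeal]
      exact Set.mem_range_self _
    rw [hη, apply_genericPoint_seq hgc hX] at h4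
    have h5 := ((specializes_iff_mem_closure.2 h4).antisymm (genericPoint_specializes _)).eq
    exact ne_generic_of_pos (n := 1) (by exact_mod_cast (hS1 _ (c i).2).1) one_ne_zero h5
  have hmem : ∀ {ζ x : X'} (i), g ζ = (c i).1 → ζ ⤳ x → x ∈ ((I' i).support : Set X') := by
    intro ζ x i hi hs
    obtain ⟨-, -, hint, hgen⟩ := hlift ζ i hi
    refine hs.mem_closed (I' i).support.2 ?_
    rw [← hgen, ← Scheme.IdealSheafData.range_subschemeι]
    exact Set.mem_range_self _
  refine ⟨X', g, hgc, fun ζ x h h1 h2 hζ => ?_, fun ζ ξ x hs hs' hζ hξ hne => ?_⟩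
  · set i := c.symm ⟨g ζ, hζ⟩
    have hi : g ζ = (c i).1 := by rw [Equiv.apply_symm_apply]
    obtain ⟨-, -, hint, hgen⟩ := hlift ζ i hi
    haveI := hint
    have hxmem := hmem i hi h
    rw [← Scheme.IdealSheafData.range_subschemeι] at hxmem
    obtain ⟨w, rfl⟩ := hxmem
    clear_value i
    subst hgen
    exact smooth_of_regular (I' i).subschemeι w (hX'.reg _) h2 ((hI' i).2.2.2 w)
      (ne_generic_of_pos (n := 1) (by exact_mod_cast h1) one_ne_zero) (ne_of_dims h1 h2)
  · set i := c.symm ⟨g ζ, hζ⟩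
    set j := c.symm ⟨g ξ, hξ⟩
    have hi : g ζ = (c i).1 := by rw [Equiv.apply_symm_apply]
    have hj : g ξ = (c j).1 := by rw [Equiv.apply_symm_apply]
    by_cases hij : i = j
    · refine hne (eq_of_preimage hgc (hi.trans (hij ▸ hj.symm)) fun h => ne_of_dims (hS1 _ hζ).1 h rfl)
    · exact Set.disjoint_left.1 (hdis i j hij) (hmem i hi hs) (hmem j hj hs')

/-- A smooth curve has finite normalization. -/
theorem isFinite_normalizationι_of_smooth (hX : Surf X) {ζ : X} (h1 : dm ζ = 1)
    (hsm : ∀ (x : X) (h : ζ ⤳ x), dm x = 2 → Smooth h)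
    [QuasiCompact ((curveIdeal ζ).subscheme.fromSpecStalk (genericPoint ↥(curveIdeal ζ).subscheme))]
    [QuasiSeparated ((curveIdeal ζ).subscheme.fromSpecStalk (genericPoint ↥(curveIdeal ζ).subscheme))] :
    IsFinite (Curv2.normalizationι (curveIdeal ζ).subscheme) := by
  haveI := hX.noeth; haveI := hX.int
  haveI : IsLocallyNoetherian (curveIdeal ζ).subscheme :=
    LocallyOfFiniteType.isLocallyNoetherian (curveIdeal ζ).subschemeι
  haveI : CompactSpace (curveIdeal ζ).subscheme := QuasiCompact.compactSpace_of_compactSpace (curveIdeal ζ).subschemeι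
  haveI : IsNoetherian (curveIdeal ζ).subscheme := ⟨⟩
  haveI : IsDominant (𝟙 (curveIdeal ζ).subscheme) := ⟨(Homeomorph.refl _).surjective.denseRange⟩
  refine GrothLib.CurveResol29.isFinite_normalizationι_of_alteration (𝟙 (curveIdeal ζ).subscheme) fun w => ?_
  by_cases hw : w = genericPoint (curveIdeal ζ).subscheme
  · subst hw
    let F := (curveIdeal ζ).subscheme.functionField
    exact inferInstanceAs (IsRegularLocalRing F)
  set i := (curveIdeal ζ).subschemeι
  have hs : i (genericPoint _) ⤳ i w := (genericPoint_specializes w).map i.continuous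
  have hne : i (genericPoint _) ≠ i w := fun e => hw (i.isEmbedding.injective e).symm
  have hc : dm (i (genericPoint _)) = 1 := (congrArg dm (genericPoint_curveIdeal ζ)).trans h1
  have h2 := dim_two_of_curve hX hs hc hne
  obtain ⟨f, g, hm, hp⟩ : Smooth hs := by
    have key : ∀ (q : X) (e : q = ζ) (h : q ⤳ i w), Smooth h := fun q e h => by
      subst e; exact hsm _ h h2
    exact key _ (genericPoint_curveIdeal ζ) hs
  haveI := hX.reg (i w)
  haveI : (Ideal.span {f}).IsPrime := hp ▸ inferInstance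
  haveI := regular_quotient h2 hm
  exact IsRegularLocalRing.of_ringEquiv (R := X.presheaf.stalk (i w) ⧸ Ideal.span {f})
    ((Ideal.quotEquivOfEq (hp.symm.trans (ker_stalkMap_eq_prAt i w).symm)).trans
      (RingHom.quotientKerEquivOfSurjective (i.stalkMap_surjective w)))

theorem generic_notMem_support [IsIntegral X] {I : X.IdealSheafData} (hI : I ≠ ⊥) :
    genericPoint X ∉ (I.support : Set X) := by
  intro h
  have h1 := GrothLib.ExcP1.stalkIdeal_ne_bot hI (genericPoint X)
  have hF : IsField (X.presheaf.stalk (genericPoint X)) := Field.toIsField X.functionField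
  letI := hF.toField
  rcases Ideal.eq_bot_or_top (stalkIdeal I (genericPoint X)) with h2 | h2
  · exact h1 h2
  · exact (stalkIdeal_eq_top_iff I _).1 h2 h

/-- **Embedded resolution**: the total transform becomes a divisor with normal crossings. -/
theorem exists_snc [IsIntegral X] [IsNoetherian X] (hX : Surf X) (I : X.IdealSheafData) (hI : I ≠ ⊥)
    (hZ : ∀ (J : X.IdealSheafData) [IsIntegral J.subscheme]
      [QuasiCompact (J.subscheme.fromSpecStalk (genericPoint ↥J.subscheme))]
      [QuasiSeparated (J.subscheme.fromSpecStalk (genericPoint ↥J.subscheme))],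
      (J.support : Set X) ⊆ I.support → topologicalKrullDim ↥J.subscheme = 1 →
        IsFinite (Curv2.normalizationι J.subscheme)) :
    ∃ (X' : Scheme.{u}) (g : X' ⟶ X), Models.IsContractionSeq g ∧ Surf X' ∧
      _root_.BlowUp.IsEffCartierIdeal (I.comap g) ∧ IsSNC ((I.comap g).support : Set X') := by
  set K : Set X := (I.support : Set X)
  have hK : IsClosed K := I.support.2
  have hη := generic_notMem_support hI
  -- smooth curves
  obtain ⟨X1, g1, hg1, hsm1, -⟩ := exists_separate hX {x : X | x ∈ K ∧ ¬ IsClosed ({x} : Set X)}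
    (GrothLib.ExcP1.finite_nonclosed hX.dim hK hη)
    (fun ζ hζ => ⟨curve_of_nonclosed hX hζ.2 fun e => hη (e ▸ hζ.1), hζ.2⟩)
    (fun ζ hζ _ _ => hZ (curveIdeal ζ) (by
        rw [support_curveIdeal]; exact hK.closure_subset_iff.2 (Set.singleton_subset_iff.2 hζ.1))
      (dim_curveIdeal hX hζ.2 (curve_of_nonclosed hX hζ.2 fun e => hη (e ▸ hζ.1))))
  have hX1 := surf_of_seq hg1 hX
  haveI := hX1.int; haveI := hX1.noeth
  have hexc := smoothCurves_of_seq hg1 hX (K := {y : X | dm y = 2})
    fun ζ x _ h1 h2 _ => absurd rfl (ne_of_dims h1 h2)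
  have hK1 : SmoothCurves (g1 ⁻¹' K) := by
    intro ζ x h h1 hmem h2
    by_cases he : dm (g1 ζ) = 2
    · exact hexc ζ x h h1 he h2
    · exact hsm1 ζ x h h1 h2 ⟨hmem, (curve_below hg1 h h1 h2 he).2⟩
  -- invertible ideal
  have hg1η := apply_genericPoint_seq hg1 hX
  have hI1 : I.comap g1 ≠ ⊥ := fun h => hη (by
    have h' : genericPoint X1 ∈ ((I.comap g1).support : Set X1) := by
      rw [h, Scheme.IdealSheafData.support_bot]; trivial
    rw [Scheme.IdealSheafData.support_comap] at h'
    exact hg1η ▸ h')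
  obtain ⟨X2, g2, hg2, hcart⟩ := GrothLib.ExcP1.exists_seq_surface hI1 hX1.reg hX1.dim
  have hX2 := surf_of_seq hg2 hX1
  haveI := hX2.int; haveI := hX2.noeth
  rw [← Scheme.IdealSheafData.comap_comp] at hcart
  set K2 : Set X2 := (g2 ≫ g1) ⁻¹' K
  have hK2 : SmoothCurves K2 := smoothCurves_of_seq hg2 hX1 hK1
  have hK2c : IsClosed K2 := hK.preimage (g2 ≫ g1).continuous
  have hg2η := apply_genericPoint_seq (GrothLib.ExcP1.seq_trans hg2 hg1) hX
  have hη2 : genericPoint X2 ∉ K2 := fun h => hη (hg2η ▸ h)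
  -- disjoint curves
  obtain ⟨X3, g3, hg3, -, hdis⟩ := exists_separate hX2 {x : X2 | x ∈ K2 ∧ ¬ IsClosed ({x} : Set X2)}
    (GrothLib.ExcP1.finite_nonclosed hX2.dim hK2c hη2)
    (fun ζ hζ => ⟨curve_of_nonclosed hX2 hζ.2 fun e => hη2 (e ▸ hζ.1), hζ.2⟩)
    (fun ζ hζ _ _ => isFinite_normalizationι_of_smooth hX2 (curve_of_nonclosed hX2 hζ.2 fun e => hη2 (e ▸ hζ.1))
      fun x h h2 => hK2 ζ x h (curve_of_nonclosed hX2 hζ.2 fun e => hη2 (e ▸ hζ.1)) hζ.1 h2)
  have hX3 := surf_of_seq hg3 hX2
  haveI := hX3.int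
  have hsnc := isSNC_of_disjoint hg3 hX2 hK2 fun ζ ξ x hζ hξ h1 h1' h2 ka kb hne ea eb =>
    hdis ζ ξ x hζ hξ ⟨ka, (curve_below hg3 hζ h1 h2 ea).2⟩ ⟨kb, (curve_below hg3 hξ h1' h2 eb).2⟩ hne
  refine ⟨X3, g3 ≫ g2 ≫ g1, GrothLib.ExcP1.seq_trans hg3 (GrothLib.ExcP1.seq_trans hg2 hg1), hX3, ?_, ?_⟩
  · rw [Scheme.IdealSheafData.comap_comp]
    exact GrothLib.RatSing29.isEffCartierIdeal_comap_of_generic g3 (apply_genericPoint_seq hg3 hX2) hcart
  · rw [show ((I.comap (g3 ≫ g2 ≫ g1)).support : Set X3) = g3 ⁻¹' K2 by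
      rw [Scheme.IdealSheafData.support_comap]; rfl]
    exact hsnc

/-- The local form of normal crossings. -/
theorem exists_local_equation (hX : Surf X) {J : X.IdealSheafData} (hJ : _root_.BlowUp.IsEffCartierIdeal J)
    (hsnc : IsSNC (J.support : Set X)) {p : X} (hp : p ∈ (J.support : Set X)) :
    ∃ (d r : ℕ) (x : Fin d → X.presheaf.stalk p), 1 ≤ r ∧ r ≤ d ∧ dm p = (d : WithBot ℕ∞) ∧
      Ideal.span (Set.range x) = maximalIdeal (X.presheaf.stalk p) ∧
      (stalkIdeal J p).radical = Ideal.span {∏ i : Fin d, if (i : ℕ) < r then x i else 1} := by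
  haveI := hX.int; haveI := hX.noeth; haveI := hX.reg p
  obtain ⟨h0, hh0, hJp⟩ := exists_stalk_generator hJ p
  have hle : stalkIdeal J p ≤ maximalIdeal _ := IsLocalRing.le_maximalIdeal fun e =>
    (stalkIdeal_eq_top_iff J p).1 e hp
  have hpη : p ≠ genericPoint X := by
    rintro rfl
    have hF : maximalIdeal (X.presheaf.stalk (genericPoint X)) = ⊥ :=
      IsLocalRing.isField_iff_maximalIdeal_eq.1 (Field.toIsField X.functionField)
    rw [hF, hJp, le_bot_iff, Ideal.span_singleton_eq_bot] at hle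
    exact nonZeroDivisors.ne_zero hh0 hle
  have hpt : ∀ Q : Ideal (X.presheaf.stalk p), Q.IsPrime → stalkIdeal J p ≤ Q →
      ∃ (q : X) (h : q ⤳ p), Q = prAt h ∧ q ∈ (J.support : Set X) ∧ q ≠ genericPoint X := by
    intro Q hQ hQJ
    haveI := hQ
    obtain ⟨q, h, rfl⟩ := exists_prAt_eq Q
    refine ⟨q, h, rfl, (stalkIdeal_le_prAt J h).1 hQJ, ?_⟩
    rintro rfl
    have hF : maximalIdeal (X.presheaf.stalk (genericPoint X)) = ⊥ :=
      IsLocalRing.isField_iff_maximalIdeal_eq.1 (Field.toIsField X.functionField)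
    rw [hJp, Ideal.span_singleton_le_iff_mem, prAt, hF, Ideal.mem_comap, Ideal.mem_bot] at hQJ
    exact nonZeroDivisors.ne_zero hh0
      ((map_eq_zero_iff _ (IsFractionRing.injective (X.presheaf.stalk p) X.functionField)).1 hQJ)
  obtain ⟨n, hn, hn2⟩ := exists_nat_dm hX p
  rcases (by omega : n = 0 ∨ n = 1 ∨ n = 2) with rfl | rfl | rfl
  · exact absurd (dm_eq_zero_iff.1 (by exact_mod_cast hn)) hpη
  · have h1 : (maximalIdeal (X.presheaf.stalk p)).spanFinrank = 1 := by
      have e := IsRegularLocalRing.spanFinrank_maximalIdeal (R := X.presheaf.stalk p)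
      rw [show ringKrullDim (X.presheaf.stalk p) = ((1 : ℕ) : WithBot ℕ∞) from hn] at e
      exact_mod_cast e
    obtain ⟨π, hπ⟩ := ((Submodule.spanFinrank_eq_one_iff _).1 h1).1
    refine ⟨1, 1, fun _ => π, le_rfl, le_rfl, hn, ?_, ?_⟩
    · rw [Set.range_const, hπ]
    · simp only [Fin.prod_univ_one, Fin.val_zero, zero_lt_one, if_true]
      rw [← Ideal.submodule_span_eq, ← hπ]
      refine le_antisymm ((Ideal.IsPrime.radical_le_iff inferInstance).2 hle) ?_
      rw [Ideal.radical_eq_sInf]
      refine le_sInf fun Q hQ => ?_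
      obtain ⟨q, h, rfl, -, hqη⟩ := hpt Q hQ.2 hQ.1
      by_cases hqp : q = p
      · subst hqp
        exact (prAt_self q).ge
      · obtain ⟨m, hm, -⟩ := exists_nat_dm hX q
        have := nat_dm_lt h hqp hm hn
        exact absurd (dm_eq_zero_iff.1 (show dm q = 0 by rw [hm, show m = 0 by omega]; rfl)) hqη
  · have hp2 : dm p = 2 := by exact_mod_cast hn
    have hcurve : ∀ (q : X) (h : q ⤳ p), q ≠ genericPoint X → prAt h ≠ maximalIdeal _ → dm q = 1 := by
      intro q h hqη hne
      exact curve_of_nonclosed hX (nonclosed_of_spec h fun e => hne (by subst e; exact prAt_self q)) hqη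
    -- one curve exists
    obtain ⟨Q0, hQ0⟩ := Ideal.nonempty_minimalPrimes (I := stalkIdeal J p)
      (fun e => (stalkIdeal_eq_top_iff J p).1 e hp)
    haveI := hQ0.1.1
    have hQ0h : Q0.height ≤ 1 := by
      rw [hJp] at hQ0
      exact Ideal.height_le_one_of_isPrincipal_of_mem_minimalPrimes _ Q0 hQ0
    have hQ0m : Q0 ≠ maximalIdeal _ := by
      intro e
      subst e
      have h3 := (WithBot.coe_le_coe.2 hQ0h : ((maximalIdeal (X.presheaf.stalk p)).height : WithBot ℕ∞) ≤ _)
      rw [IsLocalRing.maximalIdeal_height_eq_ringKrullDim, show ringKrullDim (X.presheaf.stalk p) = 2 from hp2] at h3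
      exact absurd h3 (by norm_num)
    obtain ⟨ζ, hζ, rfl, hζK, hζη⟩ := hpt Q0 hQ0.1.1 hQ0.1.2
    have hζ1 := hcurve ζ hζ hζη hQ0m
    obtain ⟨f, g, hm, hpf⟩ := hsnc.smooth ζ p hζ hζ1 hζK hp2
    have hprimes : ∀ Q : Ideal (X.presheaf.stalk p), Q.IsPrime → stalkIdeal J p ≤ Q →
        Q = maximalIdeal _ ∨ ∃ (q : X) (h : q ⤳ p), Q = prAt h ∧ q ∈ (J.support : Set X) ∧ dm q = 1 := by
      intro Q hQ hQJ
      obtain ⟨q, h, rfl, hqK, hqη⟩ := hpt Q hQ hQJ
      by_cases hQm : prAt h = maximalIdeal _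
      · exact Or.inl hQm
      · exact Or.inr ⟨q, h, rfl, hqK, hcurve q h hqη hQm⟩
    by_cases huniq : ∀ (q : X), q ⤳ p → q ∈ (J.support : Set X) → dm q = 1 → q = ζ
    · refine ⟨2, 1, ![f, g], le_rfl, one_le_two, hn, ?_, ?_⟩
      · rw [Matrix.range_cons, Matrix.range_cons, Matrix.range_empty, Set.union_empty, Set.singleton_union]
        exact hm.symm
      · have hprod : (∏ i : Fin 2, if (i : ℕ) < 1 then ![f, g] i else 1) = f := by simp [Fin.prod_univ_two]
        rw [hprod, ← hpf]
        refine le_antisymm ((Ideal.IsPrime.radical_le_iff inferInstance).2 hQ0.1.2) ?_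
        rw [Ideal.radical_eq_sInf]
        refine le_sInf fun Q hQ => ?_
        rcases hprimes Q hQ.2 hQ.1 with rfl | ⟨q, h, rfl, hqK, hq1⟩
        · exact IsLocalRing.le_maximalIdeal (Ideal.IsPrime.ne_top inferInstance)
        · obtain rfl := huniq q h hqK hq1
          exact le_rfl
    · push Not at huniq
      obtain ⟨ξ, hξ, hξK, hξ1, hne⟩ := huniq
      obtain ⟨f', g', -, hpf'⟩ := hsnc.smooth ξ p hξ hξ1 hξK hp2
      have ht : maximalIdeal _ ≤ prAt hζ ⊔ prAt hξ := hsnc.trans ζ ξ p hζ hξ hζ1 hξ1 hp2 hζK hξK (Ne.symm hne)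
      refine ⟨2, 2, ![f, f'], one_le_two, le_rfl, hn, ?_, ?_⟩
      · rw [Matrix.range_cons, Matrix.range_cons, Matrix.range_empty, Set.union_empty, Ideal.span_union,
          ← hpf, ← hpf']
        exact le_antisymm (sup_le (IsLocalRing.le_maximalIdeal (Ideal.IsPrime.ne_top inferInstance))
          (IsLocalRing.le_maximalIdeal (Ideal.IsPrime.ne_top inferInstance))) ht
      · have hprod : (∏ i : Fin 2, if (i : ℕ) < 2 then ![f, f'] i else 1) = f * f' := by simp [Fin.prod_univ_two]
        rw [hprod]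
        have hinter : prAt hζ ⊓ prAt hξ = Ideal.span {f * f'} := by
          refine le_antisymm (fun a ha => ?_) ?_
          · obtain ⟨ha1, ha2⟩ := ha
            rw [SetLike.mem_coe, hpf, Ideal.mem_span_singleton'] at ha1
            obtain ⟨c, rfl⟩ := ha1
            have hfn : f ∉ prAt hξ := fun hf => by
              have hle' : prAt hζ ≤ prAt hξ := hpf.le.trans ((Ideal.span_singleton_le_iff_mem _).2 hf)
              obtain ⟨t, rfl⟩ : f' ∣ f := Ideal.mem_span_singleton.1 (hpf' ▸ hf)
              have hf0 : f' * t ≠ 0 := fun h00 => by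
                refine ne_generic_of_pos (n := 1) (by exact_mod_cast hζ1) one_ne_zero
                  (prAt_injective hζ (genericPoint_specializes p) ?_)
                rw [hpf, h00, Ideal.span_singleton_eq_bot.2 rfl]
                symm
                refine eq_bot_iff.2 fun a ha => ?_
                have hF : maximalIdeal (X.presheaf.stalk (genericPoint X)) = ⊥ :=
                  IsLocalRing.isField_iff_maximalIdeal_eq.1 (Field.toIsField X.functionField)
                rw [prAt, hF, Ideal.mem_comap, Ideal.mem_bot] at ha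
                exact (Ideal.mem_bot).2 ((map_eq_zero_iff _ (IsFractionRing.injective (X.presheaf.stalk p) X.functionField)).1 ha)
              have hirr := ((Ideal.span_singleton_prime hf0).1 (hpf ▸ inferInstance)).irreducible
              have hnu : ¬ IsUnit f' := fun hu => Ideal.IsPrime.ne_top (I := prAt hξ) inferInstance
                (hpf'.trans (Ideal.span_singleton_eq_top.2 hu))
              have htu : IsUnit t := (hirr.isUnit_or_isUnit rfl).resolve_left hnu
              exact hne (prAt_injective hξ hζ (by rw [hpf, hpf', Ideal.span_singleton_mul_right_unit htu]))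
            have hc := ((inferInstance : (prAt hξ).IsPrime).mem_or_mem ha2).resolve_right hfn
            rw [hpf', Ideal.mem_span_singleton'] at hc
            obtain ⟨e, rfl⟩ := hc
            exact Ideal.mem_span_singleton'.2 ⟨e, by ring⟩
          · rw [Ideal.span_singleton_le_iff_mem]
            exact ⟨Ideal.mul_mem_right _ _ (hpf.ge (Ideal.mem_span_singleton_self f)),
              Ideal.mul_mem_left _ _ (hpf'.ge (Ideal.mem_span_singleton_self f'))⟩
        rw [← hinter]
        refine le_antisymm (le_inf ((Ideal.IsPrime.radical_le_iff inferInstance).2 hQ0.1.2)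
          ((Ideal.IsPrime.radical_le_iff inferInstance).2 ((stalkIdeal_le_prAt J hξ).2 hξK))) ?_
        rw [Ideal.radical_eq_sInf]
        refine le_sInf fun Q hQ => ?_
        rcases hprimes Q hQ.2 hQ.1 with rfl | ⟨q, h, rfl, hqK, hq1⟩
        · exact inf_le_left.trans (IsLocalRing.le_maximalIdeal (Ideal.IsPrime.ne_top inferInstance))
        · by_cases h1 : q = ζ
          · subst h1; exact inf_le_left
          · by_cases h2 : q = ξ
            · subst h2; exact inf_le_right
            · exact (hsnc.le_two ζ ξ q p hζ hξ h hζ1 hξ1 hq1 hp2 hζK hξK hqK (Ne.symm hne) (Ne.symm h1) (Ne.symm h2)).elim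

end GrothLib.SNC29
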