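import Groth.Agent.Lib.SNC29.Surf

/-!
# Sequences of point blow-ups of surfaces
-/

set_option autoImplicit false
set_option linter.all false
set_option backward.isDefEq.respectTransparency false

universe u

open CategoryTheory AlgebraicGeometry TopologicalSpace IsLocalRing
open GrothLib.CartierDescent

noncomputable section

namespace GrothLib.SNC29

variable {X Y Z : Scheme.{u}}

theorem dm_eq_of_iso (b : Y ⟶ X) (x : Y) [IsIso (b.stalkMap x)] : dm x = dm (b x) :=
  (ringKrullDim_eq_of_ringEquiv (asIso (b.stalkMap x)).commRingCatIsoToRingEquiv).symm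

theorem eq_of_apply_eq_off {z : X} (hz : IsClosed ({z} : Set X)) {b : Y ⟶ X}
    (hb : _root_.BlowUp.IsBlowUp b (Scheme.IdealSheafData.vanishingIdeal ⟨{z}, hz⟩)) {p q : Y}
    (h : b p = b q) (hp : b p ≠ z) : p = q := by
  haveI := GrothLib.BlowUp.isIso_off_center hb
  have hpU : b p ∈ (Scheme.IdealSheafData.vanishingIdeal (⟨{z}, hz⟩ : Closeds X)).support.compl := by
    show b p ∉ ((Scheme.IdealSheafData.vanishingIdeal (⟨{z}, hz⟩ : Closeds X)).support : Set X)
    rw [Scheme.IdealSheafData.coe_support_vanishingIdeal]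
    exact hp
  exact GrothLib.ArSurf29.injective_over_open b _ hpU h

theorem exists_apply_eq_off {z : X} (hz : IsClosed ({z} : Set X)) {b : Y ⟶ X}
    (hb : _root_.BlowUp.IsBlowUp b (Scheme.IdealSheafData.vanishingIdeal ⟨{z}, hz⟩)) {y : X}
    (hy : y ≠ z) : ∃ p, b p = y := by
  haveI := GrothLib.BlowUp.isIso_off_center hb
  have hyU : y ∈ (Scheme.IdealSheafData.vanishingIdeal (⟨{z}, hz⟩ : Closeds X)).support.compl := by
    show y ∉ ((Scheme.IdealSheafData.vanishingIdeal (⟨{z}, hz⟩ : Closeds X)).support : Set X)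
    rw [Scheme.IdealSheafData.coe_support_vanishingIdeal]
    exact hy
  obtain ⟨q, hq⟩ := (b ∣_ _).homeomorph.surjective ⟨y, hyU⟩
  exact ⟨q.1, (morphismRestrict_base_coe b _ q).symm.trans (congrArg Subtype.val hq)⟩

/-- A point is either untouched or over a point of dimension two. -/
theorem iso_or_dim_two {r : Y ⟶ X} (hr : Models.IsContractionSeq r) :
    ∀ x : Y, IsIso (r.stalkMap x) ∨ dm (r x) = 2 := by
  induction hr with
  | iso e => exact fun x => Or.inl inferInstance
  | @step A B D E ι b r hι hE hb hr ih =>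
    intro x
    obtain ⟨-, -, z, hz, -, -, hd, hblow⟩ := hb
    by_cases hx : b x = z
    · right
      rw [Scheme.Hom.comp_apply]
      rcases ih (b x) with h | h
      · haveI := h
        rw [← dm_eq_of_iso r (b x), hx]
        exact hd
      · exact h
    · haveI := GrothLib.ExcP1.isIso_stalkMap_off hz hblow hx
      rcases ih (b x) with h | h
      · haveI := h
        left
        rw [Scheme.Hom.stalkMap_comp]
        infer_instance
      · exact Or.inr h

theorem iso_of_ne_two {r : Y ⟶ X} (hr : Models.IsContractionSeq r) {x : Y} (h : dm (r x) ≠ 2) :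
    IsIso (r.stalkMap x) :=
  (iso_or_dim_two hr x).resolve_right h

/-- A point of dimension other than two has one preimage. -/
theorem existsUnique_preimage {r : Y ⟶ X} (hr : Models.IsContractionSeq r) :
    ∀ y : X, dm y ≠ 2 → ∃! x : Y, r x = y := by
  induction hr with
  | iso e =>
    intro y _
    obtain ⟨x, hx⟩ := e.hom.homeomorph.surjective y
    exact ⟨x, hx, fun x' hx' => e.hom.homeomorph.injective (hx'.trans hx.symm)⟩
  | @step A B D E ι b r hι hE hb hr ih =>
    intro y hy
    obtain ⟨-, -, z, hz, -, -, hd, hblow⟩ := hb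
    obtain ⟨w, hw, huniq⟩ := ih y hy
    have hwz : w ≠ z := by
      rintro rfl
      rcases iso_or_dim_two hr w with h | h
      · haveI := h
        exact hy (by rw [← hw, ← dm_eq_of_iso r w]; exact hd)
      · exact hy (by rw [← hw]; exact h)
    obtain ⟨x, hx⟩ := exists_apply_eq_off hz hblow hwz
    refine ⟨x, by beta_reduce; rw [Scheme.Hom.comp_apply, hx, hw], fun x' hx' => ?_⟩
    have h' : b x' = b x := (huniq (b x') (by beta_reduce; rw [← Scheme.Hom.comp_apply]; exact hx')).trans hx.symm
    exact eq_of_apply_eq_off hz hblow h' (h'.trans hx ▸ hwz)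

theorem eq_of_preimage {r : Y ⟶ X} (hr : Models.IsContractionSeq r) {p q : Y} (h : r p = r q)
    (h2 : dm (r p) ≠ 2) : p = q := by
  obtain ⟨x, -, hu⟩ := existsUnique_preimage hr (r p) h2
  exact (hu p rfl).trans (hu q h.symm).symm

/-- A curve is not blown down unless it is exceptional. -/
theorem dm_eq_one {r : Y ⟶ X} (hr : Models.IsContractionSeq r) {ζ : Y} (h1 : dm ζ = 1) (h2 : dm (r ζ) ≠ 2) :
    dm (r ζ) = 1 := by
  haveI := iso_of_ne_two hr h2
  rw [← dm_eq_of_iso r ζ]
  exact h1

/-- The blow-up in a point of dimension at most one does nothing. -/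
theorem isIso_of_dim_le_one (hX : Surf X) {z : X} (hz : IsClosed ({z} : Set X)) (hd : dm z ≠ 2) {b : Y ⟶ X}
    (hb : _root_.BlowUp.IsBlowUp b (Scheme.IdealSheafData.vanishingIdeal ⟨{z}, hz⟩)) : IsIso b := by
  haveI := hX.int; haveI := hX.noeth; haveI := hX.reg z
  set J := Scheme.IdealSheafData.vanishingIdeal (⟨{z}, hz⟩ : Closeds X)
  obtain ⟨n, hn, hn2⟩ := exists_nat_dm hX z
  have hn1 : n = 1 := by
    rcases (by omega : n = 0 ∨ n = 1 ∨ n = 2) with rfl | rfl | rfl
    · exact absurd hz (hX.notpt z (by exact_mod_cast hn))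
    · rfl
    · exact absurd (by exact_mod_cast hn) hd
  subst hn1
  have hJ : _root_.BlowUp.IsEffCartierIdeal J := by
    refine GrothLib.ExcP1.isEffCartierIdeal_of_bad_eq_empty J (Set.eq_empty_iff_forall_notMem.2 fun x hx => hx.2 ?_)
    by_cases hxz : x = z
    · subst hxz
      have h1 : (maximalIdeal (X.presheaf.stalk x)).spanFinrank = 1 := by
        have e := IsRegularLocalRing.spanFinrank_maximalIdeal (R := X.presheaf.stalk x)
        rw [show ringKrullDim (X.presheaf.stalk x) = ((1 : ℕ) : WithBot ℕ∞) from hn] at e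
        exact_mod_cast e
      obtain ⟨g, hg⟩ := ((Submodule.spanFinrank_eq_one_iff _).1 h1).1
      refine GrothLib.ExcP1.nu_eq_zero_of_span (γ := g) (mem_nonZeroDivisors_of_ne_zero ?_) ?_
      · intro h0
        subst h0
        have hm : maximalIdeal (X.presheaf.stalk x) = ⊥ := hg.trans (by simp)
        rw [hm] at h1
        simp at h1
      · exact (GrothLib.ExcP1.stalkIdeal_vanishingIdeal hz).trans hg
    · rw [GrothLib.ExcP1.nuAt, (stalkIdeal_eq_top_iff J x).2 fun h => hxz ?_]
      · exact GrothLib.ExcP1.nu_top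
      · have h' : x ∈ (J.support : Set X) := h
        rw [Scheme.IdealSheafData.coe_support_vanishingIdeal] at h'
        exact h'
  obtain ⟨h, hh, -⟩ := hb.2 X (𝟙 X) (by rwa [Scheme.IdealSheafData.comap_id])
  obtain ⟨k, -, hu⟩ := hb.2 Y b hb.1
  refine ⟨h, ?_, hh⟩
  exact (hu (b ≫ h) (by beta_reduce; rw [Category.assoc, hh, Category.comp_id])).trans (hu (𝟙 Y) (Category.id_comp b)).symm

/-- Over a regular surface, point blow-ups give contraction sequences. -/
theorem seq_of_ptBlowup {r : Y ⟶ X} (hr : Resolve.IsPtBlowupSeq r) :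
    ∀ (hX : Surf X), Models.IsContractionSeq r := by
  induction hr with
  | iso e => exact fun _ => Models.IsContractionSeq.iso e
  | @step A B D b r z hz hb hr ih =>
    intro hX
    have hr' := ih hX
    have hB := surf_of_seq hr' hX
    haveI := hB.noeth
    by_cases hd : dm z = 2
    · haveI := hB.reg z
      exact GrothLib.ExcP1.seq_blowUp_comp hz hd b hb hr'
    · haveI := isIso_of_dim_le_one hB hz hd hb
      exact GrothLib.ExcP1.seq_iso_comp hr' (asIso b)

end GrothLib.SNC29
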