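import Groth.Agent.Lib.SNC29.Seq
import Groth.Agent.Lib.CycDiv.Stalk
import Groth.Agent.Lib.DualTF27.Proj
import Groth.Agent.Lib.ExcP1.Universal

/-!
# Blowing up a point of a configuration of curves
-/

set_option autoImplicit false
set_option linter.all false
set_option backward.isDefEq.respectTransparency false

universe u

open CategoryTheory AlgebraicGeometry TopologicalSpace IsLocalRing
open GrothLib.CartierDescent

noncomputable section

namespace GrothLib.SNC29

variable {X Y : Scheme.{u}}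

/-- The data of one blow-up: a closed point of dimension two of a surface. -/
structure PtStep (b : Y ⟶ X) (z : X) : Prop where
  surf : Surf X
  closed : IsClosed ({z} : Set X)
  two : dm z = 2
  blow : _root_.BlowUp.IsBlowUp b (Scheme.IdealSheafData.vanishingIdeal ⟨{z}, closed⟩)

variable {b : Y ⟶ X} {z : X}

theorem PtStep.surfY (h : PtStep b z) : Surf Y := by
  haveI := h.surf.noeth; haveI := h.surf.reg z
  exact surf_of_seq (GrothLib.ExcP1.seq_blowUp h.closed h.two b h.blow) h.surf

theorem PtStep.mem_support (h : PtStep b z) (ζ : Y) :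
    ζ ∈ (((Scheme.IdealSheafData.vanishingIdeal (⟨{z}, h.closed⟩ : Closeds X)).comap b).support : Set Y) ↔ b ζ = z := by
  rw [Scheme.IdealSheafData.support_comap]
  show b ζ ∈ ((Scheme.IdealSheafData.vanishingIdeal (⟨{z}, h.closed⟩ : Closeds X)).support : Set X) ↔ _
  rw [Scheme.IdealSheafData.coe_support_vanishingIdeal]
  rfl

theorem PtStep.isIso_off (h : PtStep b z) {x : Y} (hx : b x ≠ z) : IsIso (b.stalkMap x) :=
  GrothLib.ExcP1.isIso_stalkMap_off h.closed h.blow hx

theorem PtStep.ne_of_spec (h : PtStep b z) {ζ x : Y} (hs : ζ ⤳ x) (hx : b x ≠ z) : b ζ ≠ z := fun e =>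
  hx (Set.mem_singleton_iff.1 ((hs.map b.continuous).mem_closed h.closed e))

/-- The exceptional curve. -/
theorem PtStep.exists_exceptional (h : PtStep b z) :
    ∃ ε : Y, b ε = z ∧ dm ε = 1 ∧ (∀ x : Y, b x = z → ε ⤳ x) ∧
      (∀ (x : Y) (hs : ε ⤳ x), dm x = 2 → Smooth hs) := by
  haveI := h.surf.noeth; haveI := h.surf.int; haveI := h.surf.reg z
  have hY := h.surfY
  haveI := hY.int; haveI := hY.noeth
  obtain ⟨e, -, -⟩ := GrothLib.ExcP1.exists_iso_point h.closed h.two h.blow
  set E := _root_.BlowUp.exceptional b (Scheme.IdealSheafData.vanishingIdeal ⟨{z}, h.closed⟩) with hE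
  haveI : IsIntegral (CohB1.ProjSpace 1 (X.residueField z)) := ProjDim.isIntegral_proj _ 1
  haveI : Nonempty E.subscheme := ⟨e.hom (genericPoint _)⟩
  haveI : IsIntegral E.subscheme := isIntegral_of_isOpenImmersion e.inv
  have hmem : ∀ q, q ∈ Set.range E.subschemeι ↔ b q = z := fun q => by
    rw [Scheme.IdealSheafData.range_subschemeι, ← h.mem_support q]
  set ε := E.subschemeι (genericPoint E.subscheme)
  have hεz : b ε = z := (hmem ε).1 ⟨_, rfl⟩
  have hspec : ∀ x : Y, b x = z → ε ⤳ x := fun x hx => by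
    obtain ⟨w, rfl⟩ := (hmem x).2 hx
    exact (genericPoint_specializes w).map E.subschemeι.continuous
  have hηz : genericPoint X ≠ z := ne_comm.1 (ne_generic_of_pos (n := 2) h.two (by norm_num))
  have hεη : ε ≠ genericPoint Y := fun he => by
    obtain ⟨p, hp⟩ := exists_apply_eq_off h.closed h.blow hηz
    have h1 : z ⤳ genericPoint X := hεz ▸ hp ▸ (he ▸ genericPoint_specializes p : ε ⤳ p).map b.continuous
    exact hηz (Set.mem_singleton_iff.1 (h1.mem_closed h.closed rfl))
  obtain ⟨c, hc⟩ := GrothLib.ExcP1.exists_ne_genericPoint (X.residueField z)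
  obtain ⟨w₀, hw₀⟩ : ∃ w₀ : E.subscheme, w₀ ≠ genericPoint E.subscheme := by
    by_contra hn
    push Not at hn
    exact hc (e.hom.homeomorph.injective ((hn (e.hom c)).trans (hn (e.hom (genericPoint _))).symm))
  have hεc : dm ε = 1 := curve_of_nonclosed hY (nonclosed_of_spec
    ((genericPoint_specializes w₀).map E.subschemeι.continuous)
    fun e' => hw₀ (E.subschemeι.isEmbedding.injective e').symm) hεη
  refine ⟨ε, hεz, hεc, hspec, fun x hs hx2 => ?_⟩
  have hxz : b x = z := Set.mem_singleton_iff.1 ((hs.map b.continuous).mem_closed h.closed hεz)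
  obtain ⟨w, rfl⟩ := (hmem x).2 hxz
  refine smooth_of_regular E.subschemeι w (hY.reg _) hx2 ?_ hεη (ne_of_dims hεc hx2)
  haveI : IsRegularLocalRing ((CohB1.ProjSpace 1 (X.residueField z)).presheaf.stalk (e.inv w)) :=
    GrothLib.DualTF27.isRegular_projSpace (X.residueField z) 1 _
  exact IsRegularLocalRing.of_ringEquiv (R := (CohB1.ProjSpace 1 (X.residueField z)).presheaf.stalk (e.inv w))
    (asIso (e.inv.stalkMap w)).commRingCatIsoToRingEquiv

theorem PtStep.eq_of_over (h : PtStep b z) {ζ ξ : Y} (hζ : dm ζ = 1) (hξ : dm ξ = 1) (h1 : b ζ = z)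
    (h2 : b ξ = z) : ζ = ξ := by
  obtain ⟨ε, -, hε1, hε, -⟩ := h.exists_exceptional
  exact (eq_of_curves (hε ζ h1) hε1 hζ).symm.trans (eq_of_curves (hε ξ h2) hε1 hξ)

/-- The ideal of the exceptional curve at a point over the centre. -/
theorem PtStep.exists_gen (h : PtStep b z) {x : Y} (hx : b x = z) :
    ∃ e : Y.presheaf.stalk x, e ∈ maximalIdeal (Y.presheaf.stalk x) ∧ e ≠ 0 ∧
      (∀ a, a ∈ maximalIdeal (X.presheaf.stalk (b x)) → b.stalkMap x a ∈ Ideal.span {e}) ∧
      (maximalIdeal (X.presheaf.stalk (b x))).map (b.stalkMap x).hom = Ideal.span {e} ∧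
      ∀ {q : Y} (hq : q ⤳ x), e ∈ prAt hq ↔ b q = z := by
  subst hx
  haveI := h.surfY.int
  obtain ⟨e, he0, he⟩ := exists_stalk_generator h.blow.1 x
  have hmap : (maximalIdeal (X.presheaf.stalk (b x))).map (b.stalkMap x).hom = Ideal.span {e} := by
    rw [← he, stalkIdeal_comap, GrothLib.ExcP1.stalkIdeal_vanishingIdeal]
  refine ⟨e, ?_, nonZeroDivisors.ne_zero he0, fun a ha => hmap ▸ Ideal.mem_map_of_mem _ ha, hmap, fun hq => ?_⟩
  · rw [← Ideal.span_singleton_le_iff_mem, ← hmap, Ideal.map_le_iff_le_comap]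
    exact fun a ha hu => ha ((isUnit_map_iff (b.stalkMap x).hom a).1 hu)
  · rw [← Ideal.span_singleton_le_iff_mem, ← he, stalkIdeal_le_prAt]
    exact h.mem_support _

/-- A fraction of the residue field of the curve. -/
theorem exists_frac_mod {ζ x : Y} (hs : ζ ⤳ x) [IsIso (b.stalkMap ζ)] (c : Y.presheaf.stalk x) :
    ∃ a s, s ∉ prAt (hs.map b.continuous) ∧ c * b.stalkMap x s - b.stalkMap x a ∈ prAt hs := by
  have hloc := GrothLib.CycDiv.isLocalization_stalkSpecializes (hs.map b.continuous)
  letI := (X.presheaf.stalkSpecializes (hs.map b.continuous)).hom.toAlgebra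
  obtain ⟨q, hq⟩ := (ConcreteCategory.bijective_of_isIso (b.stalkMap ζ)).2 (Y.presheaf.stalkSpecializes hs c)
  obtain ⟨⟨a, s⟩, has⟩ := IsLocalization.surj (M := (GrothLib.CycDiv.primeOf (hs.map b.continuous)).primeCompl) q
  refine ⟨a, s, fun hm => s.2 ((GrothLib.CycDiv.mem_primeOf_iff _ _).2 hm), ?_⟩
  have h2 : b.stalkMap ζ q * b.stalkMap ζ (X.presheaf.stalkSpecializes (hs.map b.continuous) s) =
      b.stalkMap ζ (X.presheaf.stalkSpecializes (hs.map b.continuous) a) := by
    rw [← map_mul]; exact congrArg _ has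
  rw [hq, Scheme.Hom.stalkSpecializes_stalkMap_apply b ζ x hs, Scheme.Hom.stalkSpecializes_stalkMap_apply b ζ x hs,
    ← map_mul] at h2
  show Y.presheaf.stalkSpecializes hs (c * b.stalkMap x s - b.stalkMap x a) ∈ maximalIdeal _
  rw [map_sub, h2, sub_self]
  exact zero_mem _

/-- A smooth curve through the centre lifts to a smooth curve transversal to the exceptional one. -/
theorem PtStep.lift (h : PtStep b z) {ζ x : Y} (hs : ζ ⤳ x) (hx2 : dm x = 2) (hx : b x = z) (hζ : dm ζ = 1)
    (hζz : b ζ ≠ z) (sm : Smooth (hs.map b.continuous)) :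
    Smooth hs ∧ ∀ {ε : Y} (hε : ε ⤳ x), b ε = z → Trans hs hε := by
  have hY := h.surfY
  haveI := hY.int; haveI := hY.noeth; haveI := h.surf.int; haveI := h.surf.noeth
  haveI := hY.reg x; haveI := h.surf.reg (b x)
  haveI := h.isIso_off hζz
  obtain ⟨f, g, hm, hp⟩ := sm
  obtain ⟨e, hem, he0, heφ, -, hq⟩ := h.exists_gen hx
  set φ := (b.stalkMap x).hom
  have hd2 : ringKrullDim (X.presheaf.stalk (b x)) = 2 := by rw [hx]; exact h.two
  haveI hfp : (Ideal.span {f}).IsPrime := hp ▸ inferInstance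
  haveI := regular_quotient hd2 hm
  haveI : IsDomain (X.presheaf.stalk (b x) ⧸ Ideal.span {f}) := inferInstance
  have hdvd : ∀ a s : X.presheaf.stalk (b x), (∃ t, s * t - a ∈ prAt (hs.map b.continuous)) ∨
      (∃ t, a * t - s ∈ prAt (hs.map b.continuous)) := by
    intro a s
    have hpr : ValuationRing (X.presheaf.stalk (b x) ⧸ Ideal.span {f}) := by
      haveI : IsLocalRing (X.presheaf.stalk (b x) ⧸ Ideal.span {f}) :=
        IsLocalRing.of_surjective' (Ideal.Quotient.mk _) Ideal.Quotient.mk_surjective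
      by_cases hfld : IsField (X.presheaf.stalk (b x) ⧸ Ideal.span {f})
      · letI := hfld.toField
        infer_instance
      · have h1 : (maximalIdeal (X.presheaf.stalk (b x) ⧸ Ideal.span {f})).IsPrincipal := by
          refine ⟨⟨Ideal.Quotient.mk _ g, ?_⟩⟩
          rw [← IsLocalRing.eq_maximalIdeal (I := (maximalIdeal (X.presheaf.stalk (b x))).map (Ideal.Quotient.mk (Ideal.span {f})))
            ((Ideal.map_eq_top_or_isMaximal_of_surjective _ Ideal.Quotient.mk_surjective inferInstance).resolve_left fun ht => ?_)]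
          · rw [hm, Ideal.map_span, Set.image_pair, Ideal.submodule_span_eq,
              Ideal.Quotient.eq_zero_iff_mem.2 (Ideal.mem_span_singleton_self f)]
            exact Ideal.span_insert_zero
          · have h2 := congrArg (Ideal.comap (Ideal.Quotient.mk (Ideal.span {f}))) ht
            rw [Ideal.comap_map_of_surjective _ Ideal.Quotient.mk_surjective, ← RingHom.ker_eq_comap_bot, Ideal.mk_ker,
              Ideal.comap_top, sup_eq_left.2 (IsLocalRing.le_maximalIdeal (Ideal.IsPrime.ne_top hfp))] at h2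
            exact Ideal.IsPrime.ne_top inferInstance h2
        haveI : IsDiscreteValuationRing (X.presheaf.stalk (b x) ⧸ Ideal.span {f}) :=
          ((IsDiscreteValuationRing.TFAE _ hfld).out 0 4).2 h1
        infer_instance
    rw [hp]
    rcases PreValuationRing.cond' (Ideal.Quotient.mk (Ideal.span {f}) s) (Ideal.Quotient.mk (Ideal.span {f}) a) with
      ⟨t, ht | ht⟩
    · obtain ⟨t, rfl⟩ := Ideal.Quotient.mk_surjective t
      exact Or.inl ⟨t, by rwa [← Ideal.Quotient.eq_zero_iff_mem, map_sub, map_mul, sub_eq_zero]⟩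
    · obtain ⟨t, rfl⟩ := Ideal.Quotient.mk_surjective t
      exact Or.inr ⟨t, by rwa [← Ideal.Quotient.eq_zero_iff_mem, map_sub, map_mul, sub_eq_zero]⟩
  have hmem : ∀ a, a ∈ prAt (hs.map b.continuous) → φ a ∈ prAt hs := fun a ha => by
    rw [← comap_prAt b hs] at ha
    exact ha
  have hback : ∀ a, φ a ∈ prAt hs → a ∈ prAt (hs.map b.continuous) := fun a ha => by
    rw [← comap_prAt b hs]
    exact ha
  have hsur : ∀ c, ∃ a, c - φ a ∈ prAt hs := by
    intro c
    obtain ⟨a, s, hsn, hrel⟩ := exists_frac_mod (b := b) hs c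
    have hsn' : φ s ∉ prAt hs := fun h' => hsn (hback s h')
    rcases hdvd a s with ⟨t, ht⟩ | ⟨t, ht⟩
    · refine ⟨t, ((Ideal.IsPrime.mem_or_mem inferInstance (show (c - φ t) * φ s ∈ prAt hs from ?_))).resolve_right hsn'⟩
      have h1 := hmem _ ht
      rw [map_sub, map_mul] at h1
      have := sub_mem hrel h1
      convert this using 1
      ring
    · -- `a` divides `s`: then `t` is a unit
      have h1 := hmem _ ht
      rw [map_sub, map_mul] at h1
      by_cases ha : φ a ∈ prAt hs
      · exfalso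
        refine hsn' ?_
        have := sub_mem (Ideal.mul_mem_right (φ t) _ ha) h1
        rwa [sub_sub_cancel] at this
      have h2 : (c * φ t - 1) * φ a ∈ prAt hs := by
        have := add_mem hrel (Ideal.mul_mem_left _ c h1)
        convert this using 1
        ring
      have h3 := (Ideal.IsPrime.mem_or_mem inferInstance h2).resolve_right ha
      have hu : IsUnit (φ t) := by
        by_contra hn
        have hle := IsLocalRing.le_maximalIdeal (Ideal.IsPrime.ne_top (I := prAt hs) inferInstance)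
        have := sub_mem (Ideal.mul_mem_left _ c ((IsLocalRing.mem_maximalIdeal _).2 hn)) (hle h3)
        rw [sub_sub_cancel] at this
        exact (IsLocalRing.mem_maximalIdeal _).1 this isUnit_one
      obtain ⟨u, hu'⟩ := (isUnit_map_iff φ t).1 hu
      refine ⟨((u⁻¹ : _ˣ) : X.presheaf.stalk (b x)), ?_⟩
      have h4 : φ t * φ ((u⁻¹ : _ˣ) : X.presheaf.stalk (b x)) = 1 := by
        rw [← map_mul, ← hu', Units.mul_inv, map_one]
      have := Ideal.mul_mem_right (φ ((u⁻¹ : _ˣ) : X.presheaf.stalk (b x))) _ h3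
      rwa [sub_mul, mul_assoc, h4, mul_one, one_mul] at this
  have hle : prAt hs ≤ maximalIdeal (Y.presheaf.stalk x) := IsLocalRing.le_maximalIdeal (Ideal.IsPrime.ne_top inferInstance)
  have hmax : maximalIdeal (Y.presheaf.stalk x) ≤ prAt hs ⊔ Ideal.span {e} := by
    intro c hc
    obtain ⟨a, ha⟩ := hsur c
    have ha' : φ a ∈ maximalIdeal (Y.presheaf.stalk x) := by
      have := sub_mem hc (hle ha)
      rwa [sub_sub_cancel] at this
    have := Submodule.add_mem_sup ha (heφ a fun hu => ha' (hu.map φ))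
    rwa [sub_add_cancel] at this
  refine ⟨?_, fun hε hεz => hmax.trans (sup_le_sup le_rfl ((Ideal.span_singleton_le_iff_mem _).2 ((hq hε).2 hεz)))⟩
  have hne : prAt hs ≠ ⊥ := fun h0 => by
    refine ne_generic_of_pos (n := 1) (by exact_mod_cast hζ) one_ne_zero (prAt_injective hs (genericPoint_specializes x) ?_)
    rw [h0]
    symm
    refine eq_bot_iff.2 fun a ha => ?_
    rw [Ideal.mem_bot]
    have hF : maximalIdeal (Y.presheaf.stalk (genericPoint Y)) = ⊥ :=
      IsLocalRing.isField_iff_maximalIdeal_eq.1 (Field.toIsField Y.functionField)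
    rw [prAt, hF, Ideal.mem_comap, Ideal.mem_bot] at ha
    exact (map_eq_zero_iff _ (IsFractionRing.injective (Y.presheaf.stalk x) Y.functionField)).1 ha
  haveI := GrothLib.RegUFD.ufd_of_isRegularLocalRing (Y.presheaf.stalk x)
  obtain ⟨t, -, ht⟩ := GrothLib.NormBlow29.exists_prime_span (hx2 : ringKrullDim (Y.presheaf.stalk x) = 2).le
    (Q := prAt hs) hne (fun hm' => ne_of_dims hζ hx2 (prAt_injective hs (specializes_refl x) (hm'.trans (prAt_self x).symm)))
  refine ⟨t, e, le_antisymm (hmax.trans (le_of_eq ?_)) (Ideal.span_le.2 ?_), ht⟩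
  · rw [ht, ← Ideal.span_union, Set.singleton_union]
  · rintro y (rfl | rfl)
    · exact hle (ht.ge (Ideal.mem_span_singleton_self y))
    · exact hem

/-- The lifts of transversal curves are disjoint over the centre. -/
theorem PtStep.no_meet (h : PtStep b z) {ζ ξ x : Y} (hs : ζ ⤳ x) (hs' : ξ ⤳ x) (hx : b x = z)
    (hζ : b ζ ≠ z) (hξ : b ξ ≠ z) (t : Trans (hs.map b.continuous) (hs'.map b.continuous)) : False := by
  haveI := h.surfY.int
  obtain ⟨e, hem, he0, heφ, hmap, hq⟩ := h.exists_gen hx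
  have key : ∀ {q : Y} (hq' : q ⤳ x), b q ≠ z →
      (prAt (hq'.map b.continuous)).map (b.stalkMap x).hom ≤ Ideal.span {e} * maximalIdeal (Y.presheaf.stalk x) := by
    intro q hq' hqz
    refine Ideal.map_le_iff_le_comap.2 fun a ha => ?_
    have h1 : b.stalkMap x a ∈ prAt hq' := by
      rw [← comap_prAt b hq'] at ha; exact ha
    have h2 := heφ a (IsLocalRing.le_maximalIdeal (Ideal.IsPrime.ne_top inferInstance) ha)
    obtain ⟨c, hc⟩ := Ideal.mem_span_singleton'.1 h2
    rw [← hc] at h1
    have h3 : c ∈ prAt hq' := ((inferInstance : (prAt hq').IsPrime).mem_or_mem h1).resolve_right fun hin => hqz ((hq hq').1 hin)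
    rw [Ideal.mem_comap]
    erw [← hc]
    rw [mul_comm c e]
    exact Ideal.mul_mem_mul (Ideal.mem_span_singleton_self e) (IsLocalRing.le_maximalIdeal (Ideal.IsPrime.ne_top inferInstance) h3)
  have h4 : e ∈ Ideal.span {e} * maximalIdeal (Y.presheaf.stalk x) := by
    have h5 := Ideal.map_mono (f := (b.stalkMap x).hom) t
    rw [hmap, Ideal.map_sup] at h5
    exact (h5.trans (sup_le (key hs hζ) (key hs' hξ))) (Ideal.mem_span_singleton_self e)
  obtain ⟨c, hc, hce⟩ := Ideal.mem_span_singleton_mul.1 h4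
  have hc1 : c = 1 := mul_left_cancel₀ he0 (hce.trans (mul_one e).symm)
  subst hc1
  exact (IsLocalRing.mem_maximalIdeal _).1 hc isUnit_one

end GrothLib.SNC29
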