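import Groth.Agent.Lib.SNC29.Local
import Groth.Agent.Lib.ExcP1.ElimApp
import Groth.Agent.Lib.ExcP1.Seq
import Groth.Agent.Lib.ArSurf29.Codim1
import Groth.Agent.Lib.RatSing29.ModifDim
import Groth.Agent.Lib.Euler.AmpleComponents
import Groth.Agent.Lib.CurveResol29.Disjoint
import Groth.Agent.Lib.NormBlow29.Resolve

/-!
# Points of a regular surface
-/

set_option autoImplicit false
set_option linter.all false
set_option backward.isDefEq.respectTransparency false

universe u

open CategoryTheory AlgebraicGeometry TopologicalSpace IsLocalRing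
open GrothLib.CartierDescent

noncomputable section

namespace GrothLib.SNC29

variable {X Y : Scheme.{u}}

/-- The dimension of the local ring. -/
abbrev dm (x : X) : WithBot ℕ∞ := ringKrullDim (X.presheaf.stalk x)

/-- A regular integral Noetherian scheme of dimension at most two. -/
structure Surf (X : Scheme.{u}) : Prop where
  int : IsIntegral X
  noeth : IsNoetherian X
  reg : ∀ x : X, IsRegularLocalRing (X.presheaf.stalk x)
  dim : topologicalKrullDim X ≤ 2
  notpt : ∀ x : X, ringKrullDim (X.presheaf.stalk x) = 0 → ¬ IsClosed ({x} : Set X)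

theorem exists_nat_dm (hX : Surf X) (x : X) : ∃ n : ℕ, dm x = (n : WithBot ℕ∞) ∧ n ≤ 2 := by
  haveI := hX.noeth
  haveI := hX.int
  haveI := hX.reg x
  have h := GrothLib.ExcP1.ringKrullDim_stalk_le hX.dim x
  rw [← IsRegularLocalRing.spanFinrank_maximalIdeal (R := X.presheaf.stalk x)] at h
  exact ⟨_, (IsRegularLocalRing.spanFinrank_maximalIdeal (R := X.presheaf.stalk x)).symm, by exact_mod_cast h⟩

theorem dm_add_one_le {ζ x : X} (h : ζ ⤳ x) (hne : ζ ≠ x) : dm ζ + 1 ≤ dm x := by
  have hP : prAt h < maximalIdeal (X.presheaf.stalk x) :=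
    lt_of_le_of_ne (IsLocalRing.le_maximalIdeal (Ideal.IsPrime.ne_top inferInstance)) fun e =>
      hne (prAt_injective h (specializes_refl x) (e.trans (prAt_self x).symm))
  rw [dm, dm, GrothLib.ArSurf29.ringKrullDim_stalk_eq_height_of_specializes h,
    ← IsLocalRing.maximalIdeal_height_eq_ringKrullDim]
  exact (WithBot.coe_le_coe.2 (Ideal.height_add_one_le_of_lt_of_isPrime hP))

theorem nat_dm_lt {ζ x : X} (h : ζ ⤳ x) (hne : ζ ≠ x) {a b : ℕ} (ha : dm ζ = a) (hb : dm x = b) : a < b := by
  have h' := dm_add_one_le h hne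
  rw [ha, hb] at h'
  have : a + 1 ≤ b := by exact_mod_cast h'
  omega

theorem eq_of_curves {ζ ξ : X} (h : ζ ⤳ ξ) (h1 : dm ζ = 1) (h2 : dm ξ = 1) : ζ = ξ := by
  by_contra hne
  have := nat_dm_lt h hne (a := 1) (b := 1) (by exact_mod_cast h1) (by exact_mod_cast h2)
  omega

theorem closed_of_dim_two (hX : Surf X) {x : X} (h : dm x = 2) : IsClosed ({x} : Set X) := by
  refine isClosed_of_closure_subset fun z hz => ?_
  by_contra hne
  obtain ⟨n, hn, hn2⟩ := exists_nat_dm hX z
  have := nat_dm_lt (specializes_iff_mem_closure.2 hz) (Ne.symm hne) (a := 2) (by exact_mod_cast h) hn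
  omega

theorem dim_two_of_curve {ζ x : X} (hX : Surf X) (h : ζ ⤳ x) (h1 : dm ζ = 1) (hne : ζ ≠ x) : dm x = 2 := by
  obtain ⟨n, hn, hn2⟩ := exists_nat_dm hX x
  have := nat_dm_lt h hne (a := 1) (by exact_mod_cast h1) hn
  rw [hn, show n = 2 by omega]
  rfl

theorem dm_eq_zero_iff [IsIntegral X] {x : X} : dm x = 0 ↔ x = genericPoint X := by
  constructor
  · intro h
    by_contra hne
    have h' := dm_add_one_le (genericPoint_specializes x) (Ne.symm hne)
    have h0 : dm (genericPoint X) = 0 := ringKrullDim_eq_zero_of_field X.functionField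
    rw [h, h0] at h'
    have : (0 : ℕ) + 1 ≤ 0 := by exact_mod_cast h'
    omega
  · rintro rfl
    exact ringKrullDim_eq_zero_of_field X.functionField

theorem ne_generic_of_pos [IsIntegral X] {x : X} {n : ℕ} (h : dm x = n) (hn : n ≠ 0) : x ≠ genericPoint X := by
  intro e
  rw [dm_eq_zero_iff.2 e] at h
  exact hn (by exact_mod_cast h.symm)

theorem curve_of_nonclosed (hX : Surf X) [IsIntegral X] {x : X} (h : ¬ IsClosed ({x} : Set X))
    (hne : x ≠ genericPoint X) : dm x = 1 := by
  obtain ⟨n, hn, hn2⟩ := exists_nat_dm hX x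
  rcases (by omega : n = 0 ∨ n = 1 ∨ n = 2) with rfl | rfl | rfl
  · exact absurd (dm_eq_zero_iff.1 (by exact_mod_cast hn)) hne
  · exact_mod_cast hn
  · exact absurd (closed_of_dim_two hX (by exact_mod_cast hn)) h

theorem nonclosed_of_spec {ζ x : X} (h : ζ ⤳ x) (hne : ζ ≠ x) : ¬ IsClosed ({ζ} : Set X) := fun hc =>
  hne (Set.mem_singleton_iff.1 (h.mem_closed hc rfl)).symm

theorem ne_of_dims {ζ x : X} (h1 : dm ζ = 1) (h2 : dm x = 2) : ζ ≠ x := by
  rintro rfl
  rw [h1] at h2
  exact absurd (WithBot.coe_injective (h2 : ((1 : ℕ∞) : WithBot ℕ∞) = ((2 : ℕ∞) : WithBot ℕ∞))) (by decide)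

/-- The curve with generic point `ζ`. -/
def curveIdeal (ζ : X) : X.IdealSheafData :=
  Scheme.IdealSheafData.vanishingIdeal ⟨closure {ζ}, isClosed_closure⟩

theorem support_curveIdeal (ζ : X) : ((curveIdeal ζ).support : Set X) = closure {ζ} :=
  Scheme.IdealSheafData.coe_support_vanishingIdeal _

instance (ζ : X) : IsIntegral (curveIdeal ζ).subscheme :=
  GrothLib.Euler.isIntegral_vanishingIdeal _ isIrreducible_singleton.closure

theorem range_curveIdeal (ζ : X) : Set.range (curveIdeal ζ).subschemeι = closure {ζ} :=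
  (Scheme.IdealSheafData.range_subschemeι _).trans (support_curveIdeal ζ)

theorem genericPoint_curveIdeal (ζ : X) : (curveIdeal ζ).subschemeι (genericPoint (curveIdeal ζ).subscheme) = ζ := by
  obtain ⟨w, hw⟩ : ζ ∈ Set.range (curveIdeal ζ).subschemeι := by
    rw [range_curveIdeal]; exact subset_closure rfl
  have h1 : (curveIdeal ζ).subschemeι (genericPoint (curveIdeal ζ).subscheme) ⤳ ζ :=
    ((genericPoint_specializes w).map (curveIdeal ζ).subschemeι.continuous).trans (specializes_of_eq hw)
  have h2 : ζ ⤳ (curveIdeal ζ).subschemeι (genericPoint (curveIdeal ζ).subscheme) :=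
    specializes_iff_mem_closure.2 (range_curveIdeal ζ ▸ Set.mem_range_self _)
  exact (h1.antisymm h2).eq

theorem dim_curveIdeal (hX : Surf X) {ζ : X} (hc : ¬ IsClosed ({ζ} : Set X)) (h1 : dm ζ = 1) :
    topologicalKrullDim (curveIdeal ζ).subscheme = 1 := by
  set W := (curveIdeal ζ).subscheme
  set i := (curveIdeal ζ).subschemeι
  rw [← GrothLib.CurvePoints.krullDim_points_eq W]
  refine le_antisymm ?_ ?_
  · rw [Order.krullDim_le_one_iff]
    intro w
    by_cases hw : w = genericPoint W
    · exact Or.inr fun v _ => hw ▸ genericPoint_specializes v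
    · refine Or.inl fun v hv => ?_
      have hiw : dm (i w) = 2 := dim_two_of_curve hX
        ((specializes_of_eq (genericPoint_curveIdeal ζ).symm).trans ((genericPoint_specializes w).map i.continuous)) h1
        fun e => hw (i.isEmbedding.injective ((genericPoint_curveIdeal ζ).trans e)).symm
      have h2 : v = w := i.isEmbedding.injective
        ((hv.map i.continuous).mem_closed (closed_of_dim_two hX hiw) rfl)
      exact h2 ▸ le_rfl
  · obtain ⟨x, hx, hne⟩ : ∃ x, ζ ⤳ x ∧ x ≠ ζ := by
      by_contra hn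
      push Not at hn
      exact hc (isClosed_of_closure_subset fun z hz => hn z (specializes_iff_mem_closure.2 hz))
    obtain ⟨w, hw⟩ : x ∈ Set.range i := by
      rw [range_curveIdeal]; exact specializes_iff_mem_closure.1 hx
    refine Order.one_le_krullDim_iff.2 ⟨w, genericPoint W, lt_iff_le_not_ge.2 ⟨genericPoint_specializes w, fun h => hne ?_⟩⟩
    exact hw.symm.trans ((((genericPoint_specializes w).map i.continuous).antisymm (h.map i.continuous)).eq.symm.trans
      (genericPoint_curveIdeal ζ))

/-- A scheme isomorphic to a surface on stalks. -/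
theorem surf_of_seq {r : Y ⟶ X} (hr : Models.IsContractionSeq r) (hX : Surf X) : Surf Y := by
  haveI := hX.noeth; haveI := hX.int
  obtain ⟨hN, hI, hp, hreg, V, hV, hViso⟩ := GrothLib.NormBlow29.modification_of_contractionSeq hr hX.reg
  haveI := hN; haveI := hI; haveI := hp
  refine ⟨hI, hN, hreg, GrothLib.RatSing29.dim_le_of_birational r V hV hViso hX.dim, fun x hx hc => ?_⟩
  have he : x = genericPoint Y := dm_eq_zero_iff.1 hx
  subst he
  haveI := hViso
  obtain ⟨e, -⟩ := GrothLib.ExcP1.birational_of_iso_over (f := r) V hV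
  have h2 := r.isClosedMap _ hc
  rw [Set.image_singleton] at h2
  exact hX.notpt _ (dm_eq_zero_iff.2 e) h2

theorem surf_of_eq_two [IsIntegral X] [IsNoetherian X]
    (hreg : ∀ x : X, IsRegularLocalRing (X.presheaf.stalk x)) (hdim : topologicalKrullDim X = 2) : Surf X := by
  refine ⟨inferInstance, inferInstance, hreg, hdim.le, fun x hx hc => ?_⟩
  have he : x = genericPoint X := dm_eq_zero_iff.1 hx
  subst he
  haveI hs : Subsingleton X := ⟨fun a b => by
    have e : closure ({genericPoint X} : Set X) = Set.univ := genericPoint_spec X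
    rw [hc.closure_eq] at e
    exact (e ▸ Set.mem_univ a : a ∈ ({genericPoint X} : Set X)).trans (e ▸ Set.mem_univ b : b ∈ ({genericPoint X} : Set X)).symm⟩
  have h0 := topologicalKrullDim_zero_of_discreteTopology X
  rw [hdim] at h0
  exact absurd h0 (by norm_num)

end GrothLib.SNC29
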